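import Cfsg.Agent.Ree.Torus.Basic
import Cfsg.Agent.GWFour.Consumers.Reduce
import Cfsg.Agent.FourGroupGW.Main
import Cfsg.Agent.LocalThree.HallJankoType.AltFive
import Cfsg.Agent.S0253

/-!
The centralizer of a nontrivial element of the torus `K`: it normalises `V`, or its quotient by `K` is `A₅`.
-/

set_option autoImplicit false
set_option linter.style.haveILetI false
set_option linter.unusedSectionVars false

namespace Cfsg.Lib.Ree

open Subgroup Cfsg.Lib.TwoTimesPSL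

universe u

variable {G : Type u} [Group G]

/-- A group of odd order normalised by a four-group, the centralizers of whose involutions lie in `K`, lies in `K`. -/
theorem odd_le_fixed [Finite G] {O K : Subgroup G} {a b : G} (hodd : Odd (Nat.card O)) (ha : a * a = 1)
    (hb : b * b = 1) (hab : Commute a b) (hna : ∀ x ∈ O, a * x * a⁻¹ ∈ O) (hnb : ∀ x ∈ O, b * x * b⁻¹ ∈ O)
    (hK : ∀ y ∈ K, Commute y a ∧ Commute y b)
    (hfix : ∀ x ∈ O, Commute x a ∨ Commute x b ∨ Commute x (a * b) → x ∈ K) : O ≤ K := by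
  have hord : ∀ x ∈ O, Odd (orderOf x) := fun x hx => hodd.of_dvd_nat (Subgroup.orderOf_dvd_natCard _ hx)
  -- each element is a fixed one times an inverted one
  have hdec : ∀ c : G, c * c = 1 → (∀ x ∈ O, c * x * c⁻¹ ∈ O) → ∀ o ∈ O,
      ∃ f ∈ O, ∃ i ∈ O, o = f * i ∧ Commute f c ∧ c * i * c⁻¹ = i⁻¹ := by
    intro c hc hnc o ho
    set x := o⁻¹ * (c * o * c⁻¹) with hx
    have hci : c⁻¹ = c := inv_eq_of_mul_eq_one_right hc
    have hxO : x ∈ O := mul_mem (inv_mem ho) (hnc o ho)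
    have hxi : c * x * c⁻¹ = x⁻¹ := by
      calc c * x * c⁻¹ = c * o⁻¹ * c⁻¹ * (c * c) * o * (c * c)⁻¹ := by rw [hx]; group
        _ = c * o⁻¹ * c⁻¹ * o := by rw [hc, inv_one, mul_one, mul_one]
        _ = x⁻¹ := by rw [hx]; group
    obtain ⟨j, hj⟩ := exists_sq_pow (hord x hxO)
    set s := x ^ j with hs
    have hss : s * s = x := by rw [hs, ← (Commute.refl x).mul_pow, ← hj]
    have hsi : c * s * c⁻¹ = s⁻¹ := by rw [hs, ← conj_pow, hxi, inv_pow]
    have hsO : s ∈ O := pow_mem hxO j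
    refine ⟨o * s, mul_mem ho hsO, s⁻¹, inv_mem hsO, by group, ?_, ?_⟩
    · refine (mul_inv_eq_iff_eq_mul.1 ?_).symm
      rw [show c * (o * s) * c⁻¹ = o * x * (c * s * c⁻¹) by rw [hx]; group, hsi, ← hss]
      group
    · rw [show c * s⁻¹ * c⁻¹ = (c * s * c⁻¹)⁻¹ by group, hsi]
  -- an element inverted by `a` is trivial
  have hinv1 : ∀ i ∈ O, a * i * a⁻¹ = i⁻¹ → i = 1 := by
    intro i hi hia
    obtain ⟨c, hc, i', hi', hie, hcb, hib⟩ := hdec b hb hnb i hi
    have hcK := hfix c hc (Or.inr (Or.inl hcb))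
    have hca := (hK c hcK).1
    have e1 : a * i' * a⁻¹ = c⁻¹ * i'⁻¹ * c⁻¹ := by
      have h : c * (a * i' * a⁻¹) = i'⁻¹ * c⁻¹ := by
        rw [← _root_.mul_inv_rev, ← hie, ← hia, hie, show a * (c * i') * a⁻¹ = a * c * (i' * a⁻¹) by group, ← hca.eq]
        group
      rw [mul_assoc c⁻¹, ← h, inv_mul_cancel_left]
    have e2 : b * (a * i' * a⁻¹) * b⁻¹ = a * i'⁻¹ * a⁻¹ := by
      rw [show b * (a * i' * a⁻¹) * b⁻¹ = (b * a) * i' * (b * a)⁻¹ by group, ← hab.eq,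
        show a * b * i' * (a * b)⁻¹ = a * (b * i' * b⁻¹) * a⁻¹ by group, hib]
    have e3 : b * (c⁻¹ * i'⁻¹ * c⁻¹) * b⁻¹ = c⁻¹ * i' * c⁻¹ := by
      have hc' : b * c⁻¹ * b⁻¹ = c⁻¹ := by rw [← hcb.inv_left.eq, mul_inv_cancel_right]
      rw [show b * (c⁻¹ * i'⁻¹ * c⁻¹) * b⁻¹ = (b * c⁻¹ * b⁻¹) * (b * i' * b⁻¹)⁻¹ * (b * c⁻¹ * b⁻¹) by group, hc', hib,
        inv_inv]
    have e4 : c⁻¹ * i' * c⁻¹ = c * i' * c := by
      rw [← e3, ← e1, e2, show a * i'⁻¹ * a⁻¹ = (a * i' * a⁻¹)⁻¹ by group, e1]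
      group
    have e5 : i' * (c * c) * i'⁻¹ = (c * c)⁻¹ := by
      have e : i' * (c * c) = c⁻¹ * c⁻¹ * i' := by
        rw [show c⁻¹ * c⁻¹ * i' = c⁻¹ * (c⁻¹ * i' * c⁻¹) * c by group, e4]
        group
      rw [e]; group
    have e6 : Commute (i' * i') (c * c) := mul_inv_eq_iff_eq_mul.1 (by
      rw [show i' * i' * (c * c) * (i' * i')⁻¹ = i' * (i' * (c * c) * i'⁻¹) * i'⁻¹ by group, e5, ← conj_inv, e5,
        inv_inv])
    obtain ⟨j, hj⟩ := exists_sq_pow (hord i' hi')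
    have e7 : Commute i' (c * c) := hj ▸ e6.pow_left j
    rw [e7.eq, mul_inv_cancel_right] at e5
    have hcO : c * c ∈ O := mul_mem hc hc
    have hc2 : c * c = 1 := eq_one_of_odd_sq (hord _ hcO) (by nth_rw 2 [e5]; exact mul_inv_cancel _)
    have hc1 : c = 1 := eq_one_of_odd_sq (hord _ hc) hc2
    rw [hc1, one_mul] at hie
    subst hie
    have hiab : Commute i (a * b) := (mul_inv_eq_iff_eq_mul.1 (by
      rw [show a * b * i * (a * b)⁻¹ = a * (b * i * b⁻¹) * a⁻¹ by group, hib, ← conj_inv, hia, inv_inv])).symm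
    have hiK := hfix i hi (Or.inr (Or.inr hiab))
    have := (hK i hiK).1
    rw [← this.eq, mul_inv_cancel_right] at hia
    exact eq_one_of_odd_sq (hord i hi) (by nth_rw 2 [hia]; exact mul_inv_cancel i)
  intro o ho
  obtain ⟨f, hf, i, hi, rfl, hfa, hia⟩ := hdec a ha hna o ho
  rw [hinv1 i hi hia, mul_one]
  exact hfix f hf (Or.inl hfa)

theorem alt_four_sq : Nat.card {x : alternatingGroup (Fin 4) // x * x = 1} = 4 := by
  rw [Nat.card_eq_fintype_card]
  decide +kernel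

theorem alt_five_rot : ∀ a c : alternatingGroup (Fin 5), a * a = 1 → c * c = 1 → a ≠ 1 → c ≠ 1 → a ≠ c →
    a * c = c * a → ∃ b : alternatingGroup (Fin 5), b * b * b = 1 ∧ b * a * b⁻¹ = c ∧ b * c * b⁻¹ = a * c := by
  decide +kernel

set_option synthInstance.maxSize 2000 in
theorem alt_five_four : ∀ a c : alternatingGroup (Fin 5),
    (a * a = 1 ∧ c * c = 1 ∧ a ≠ 1 ∧ c ≠ 1 ∧ a ≠ c ∧ a * c = c * a) →
    ∀ x : alternatingGroup (Fin 5), (x * a = a * x ∧ x * c = c * x) →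
    x = 1 ∨ x = a ∨ x = c ∨ x = a * c := by
  decide +kernel

namespace Frame

variable {t : G} (Φ : Frame t) [Finite G]

/-- An element normalising `V` and centralizing a nontrivial element of `K`. -/
theorem norm_cent {y g : G} (hy : y ∈ Φ.K) (hy1 : y ≠ 1) (hg : ∀ w ∈ Φ.V, g * w * g⁻¹ ∈ Φ.V) (hgy : Commute g y) :
    ∃ i < 3, (Φ.m ^ i)⁻¹ * g ∈ Φ.T0 ∧ (i ≠ 0 → Commute Φ.m y) := by
  obtain ⟨i, hi, h1, h2⟩ := Φ.norm_V hg
  set x := (Φ.m ^ i)⁻¹ * g with hx
  have hg' : Φ.m ^ i * (x * y * x⁻¹) * (Φ.m ^ i)⁻¹ = y := by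
    rw [hx, show Φ.m ^ i * ((Φ.m ^ i)⁻¹ * g * y * ((Φ.m ^ i)⁻¹ * g)⁻¹) * (Φ.m ^ i)⁻¹ = g * y * g⁻¹ by group,
      hgy.eq, mul_inv_cancel_right]
  have hpow : ∀ j, Φ.m ^ j * y * (Φ.m ^ j)⁻¹ = y → j % 3 ≠ 0 → Commute Φ.m y := by
    intro j hj hj0
    have h : Commute (Φ.m ^ j) y := mul_inv_eq_iff_eq_mul.1 hj
    have e : Φ.m = (Φ.m ^ j) ^ (j % 3) := by
      rw [← pow_mul, Φ.m_pow_mod, Nat.mul_mod, Nat.mod_mod, ← Nat.mul_mod,
        show j * j % 3 = 1 by rw [Nat.mul_mod]; rcases (show j % 3 = 1 ∨ j % 3 = 2 by omega) with e | e <;> rw [e],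
        pow_one]
    rw [e]
    exact h.pow_left _
  refine ⟨i, hi, ?_⟩
  rcases Φ.cenV h1 h2 with hT | hT
  · refine ⟨hT, fun hi0 => hpow i ?_ (by omega)⟩
    rwa [(Φ.T0_comm hT (Φ.K_le_T0 hy)).eq, mul_inv_cancel_right] at hg'
  · exfalso
    have hxy : x * y * x⁻¹ = y⁻¹ := by
      have hc := Φ.T0_comm hT (Φ.K_le_T0 (inv_mem hy))
      rw [show x * y * x⁻¹ = x * Φ.z * (Φ.z⁻¹ * y * Φ.z) * (x * Φ.z)⁻¹ by group,
        show Φ.z⁻¹ * y * Φ.z = y⁻¹ by
          have := Φ.inv y hy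
          rw [inv_eq_of_mul_eq_one_right Φ.zz] at this ⊢
          exact this,
        hc.eq, mul_inv_cancel_right]
    rw [hxy] at hg'
    have h2i : Φ.m ^ (i + i) * y * (Φ.m ^ (i + i))⁻¹ = y := by
      rw [pow_add, show Φ.m ^ i * Φ.m ^ i * y * (Φ.m ^ i * Φ.m ^ i)⁻¹ =
        Φ.m ^ i * (Φ.m ^ i * y⁻¹ * (Φ.m ^ i)⁻¹)⁻¹ * (Φ.m ^ i)⁻¹ by group, hg', hg']
    have hfix : Φ.m ^ i * y⁻¹ * (Φ.m ^ i)⁻¹ = y⁻¹ := by
      by_cases hi0 : i = 0
      · simp [hi0]
      · rw [((hpow _ h2i (by omega)).pow_left i).inv_right.eq, mul_inv_cancel_right]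
    rw [hfix] at hg'
    exact hy1 (eq_one_of_odd_sq (Φ.K_odd hy) (by nth_rw 1 [← hg']; exact inv_mul_cancel y))

/-- The two kinds of centralizers. -/
theorem cent_cases {y : G} (hy : y ∈ Φ.K) (hy1 : y ≠ 1) :
    (∀ x : G, Commute x y → ∀ w ∈ Φ.V, x * w * x⁻¹ ∈ Φ.V) ∨
      (Commute Φ.m y ∧ ∃ π : ↥(centralizer ({y} : Set G)) →* alternatingGroup (Fin 5),
        Function.Surjective π ∧ ∀ x, π x = 1 ↔ (x : G) ∈ Φ.K) := by
  classical
  haveI : Fact (Nat.Prime 2) := ⟨Nat.prime_two⟩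
  set C := centralizer ({y} : Set G) with hC
  have hmemC : ∀ {x : G}, x ∈ C ↔ Commute x y := fun {x} => mem_centralizer_singleton_iff
  have hT0C : Φ.T0 ≤ C := fun x hx => hmemC.2 (Φ.T0_comm hx (Φ.K_le_T0 hy))
  have hVC : Φ.V ≤ C := Φ.V_le_T0.trans hT0C
  have hT0 : ∀ {x w : G}, x ∈ C → w ∈ Φ.V → w ≠ 1 → Commute x w → x ∈ Φ.T0 :=
    fun hx hw hw1 hxw => Φ.mem_T0_of_comm_four hy hy1 hw hw1 hxw (hmemC.1 hx)
  -- the Sylow 2-subgroup
  have hV2 : IsPGroup 2 Φ.V := fun w => ⟨1, Subtype.ext (by rw [pow_one, pow_two]; exact Φ.V_sq w.2)⟩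
  obtain ⟨S, hS⟩ := (hV2.comap_of_injective C.subtype C.subtype_injective).exists_le_sylow
  have hSV : (S : Subgroup C) = Φ.V.subgroupOf C := by
    refine le_antisymm (fun x hx => mem_subgroupOf.2 ?_) hS
    obtain ⟨P, hP⟩ := (S.isPGroup'.map C.subtype).exists_le_sylow
    haveI := Φ.ab P
    have hxt : Commute (x : G) t := congrArg Subtype.val (mul_comm'
      (⟨x, hP ⟨x, hx, rfl⟩⟩ : (P : Subgroup G))
      ⟨t, hP ⟨⟨t, hVC Φ.t_mem⟩, hS (mem_subgroupOf.2 Φ.t_mem), rfl⟩⟩)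
    obtain ⟨w, hw, y', hy', hxe⟩ := hT0 x.2 Φ.t_mem Φ.t_ne hxt
    have h2 : IsTwoEl (x : G) := by
      obtain ⟨i, hi⟩ := S.isPGroup' ⟨x, hx⟩
      exact ⟨i, congrArg Subtype.val (congrArg Subtype.val hi)⟩
    obtain ⟨i, hi⟩ := h2
    have hy2 : (w * (x : G)) ^ 2 ^ i = 1 := by
      rw [(Φ.T0_comm (Φ.V_le_T0 hw) (hxe ▸ Φ.mul_mem_T0 hw hy')).mul_pow, hi, mul_one]
      rcases Nat.eq_zero_or_pos i with h0 | h0
      · subst h0
        rw [pow_zero, pow_one] at hi ⊢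
        rw [hxe] at hi
        exact (Φ.split_unique hw (one_mem _) hy' (one_mem _) (by rw [one_mul]; exact hi)).1
      · obtain ⟨i', rfl⟩ := Nat.exists_eq_add_of_le h0
        rw [pow_add, pow_one, pow_mul, pow_two, Φ.V_sq hw, one_pow]
    have hwx : w * (x : G) = y' := by rw [hxe, ← mul_assoc, Φ.V_sq hw, one_mul]
    rw [hwx] at hy2
    rw [hxe, IsTwoEl.eq_one ⟨i, hy2⟩ (Φ.K_odd hy'), mul_one]
    exact hw
  have hS4 : IsKleinFour ↥(S : Subgroup C) := by
    refine GWFour.klein_of_sq ?_ fun x => Subtype.ext (Subtype.ext ?_)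
    · rw [hSV, Nat.card_congr (subgroupOfEquivOfLe hVC).toEquiv]
      show Nat.card {w : G // InFour t Φ.v w} = 4
      rw [show (4 : ℕ) = ({1, t, Φ.v, t * Φ.v} : Finset G).card from ?_, ← Nat.card_eq_finsetCard]
      · exact Nat.card_congr (Equiv.subtypeEquivRight fun w => by simp [InFour])
      · have e1 : t ≠ t * Φ.v := fun e => Φ.v_ne_one (mul_eq_left.1 e.symm)
        have e2 : Φ.v ≠ t * Φ.v := fun e => Φ.t_ne (mul_eq_right.1 e.symm)
        simp [Φ.t_ne.symm, Φ.v_ne_one.symm, Φ.tv_ne.symm, Φ.v_ne.symm, e1, e2]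
    · exact Φ.V_sq (mem_subgroupOf.1 (hSV ▸ x.2))
  set O := Cfsg.oddCore C with hO
  haveI : O.Normal := Cfsg.Lib.Components.normal_of_mem_sSup_normal fun _ h => h.1
  have hOodd : Odd (Nat.card O) := Nat.coprime_two_right.1 (Cfsg.Lib.Components.coprime_card_pPrimeCore 2)
  set π := QuotientGroup.mk' O with hπ
  have hsur : Function.Surjective π := QuotientGroup.mk'_surjective _
  -- the odd core lies in `K`
  have hOK : ∀ x : C, x ∈ O → (x : G) ∈ Φ.K := by
    have h := odd_le_fixed (O := O.map C.subtype) (K := Φ.K) (a := t) (b := Φ.v)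
      (by rwa [card_map_of_injective C.subtype_injective]) Φ.tt Φ.vv Φ.tv ?_ ?_
      (fun x hx => ⟨Φ.K_t hx, Φ.K_v hx⟩) ?_
    · exact fun x hx => h ⟨x, hx, rfl⟩
    · rintro _ ⟨x, hx, rfl⟩
      exact ⟨⟨t, hVC Φ.t_mem⟩ * x * ⟨t, hVC Φ.t_mem⟩⁻¹, (inferInstance : O.Normal).conj_mem x hx _, rfl⟩
    · rintro _ ⟨x, hx, rfl⟩
      exact ⟨⟨Φ.v, hVC Φ.v_mem⟩ * x * ⟨Φ.v, hVC Φ.v_mem⟩⁻¹, (inferInstance : O.Normal).conj_mem x hx _, rfl⟩
    · rintro _ ⟨x, hx, rfl⟩ hc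
      refine Φ.mem_K_of_odd ?_ ?_
      · rcases hc with hc | hc | hc
        · exact hT0 x.2 Φ.t_mem Φ.t_ne hc
        · exact hT0 x.2 Φ.v_mem Φ.v_ne_one hc
        · exact hT0 x.2 Φ.tv_mem Φ.tv_ne hc
      · rw [Subgroup.coe_subtype, orderOf_coe]
        exact hOodd.of_dvd_nat (Subgroup.orderOf_dvd_natCard _ hx)
  -- congruences modulo the core between involutions are equalities
  have hlift : ∀ (a b : C), (a : G) ∈ Φ.V → (b : G) * b = 1 → π b = π a → (b : G) = a := by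
    intro a b ha hb hab
    have hk : (b : G) * (a : G)⁻¹ ∈ Φ.K := by
      have hO' : b * a⁻¹ ∈ O := (QuotientGroup.eq_one_iff _).1 (show π (b * a⁻¹) = 1 by
        rw [map_mul, map_inv, hab, mul_inv_cancel])
      exact hOK _ hO'
    rw [inv_eq_of_mul_eq_one_right (Φ.V_sq ha)] at hk
    have hsq : (b : G) * a * ((b : G) * a) = 1 := by
      have e : (b : G) = (b : G) * a * a := by rw [mul_assoc, Φ.V_sq ha, mul_one]
      calc (b : G) * a * ((b : G) * a) = (b : G) * ((a : G) * ((b : G) * a)) := by rw [mul_assoc]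
        _ = (b : G) * ((b : G) * a * a) := by rw [(Φ.V_comm_K ha hk).eq]
        _ = 1 := by rw [← e, hb]
    have h1 := eq_one_of_odd_sq (Φ.K_odd hk) hsq
    rw [← one_mul (a : G), ← h1, mul_assoc, Φ.V_sq ha, mul_one]
  have hqc : ∀ (w : G) (hw : w ∈ Φ.V), w ≠ 1 → ∀ x : C, π x * π ⟨w, hVC hw⟩ = π ⟨w, hVC hw⟩ * π x →
      (x : G) ∈ Φ.T0 := by
    intro w hw hw1 x hx
    refine hT0 x.2 hw hw1 ?_
    have h := hlift ⟨w, hVC hw⟩ (x * ⟨w, hVC hw⟩ * x⁻¹) hw (by
        push_cast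
        rw [show (x : G) * w * (x : G)⁻¹ * ((x : G) * w * (x : G)⁻¹) = (x : G) * (w * w) * (x : G)⁻¹ by group,
          Φ.V_sq hw]
        group)
      (by rw [map_mul, map_mul, map_inv, hx, mul_inv_cancel_right])
    push_cast at h
    exact mul_inv_eq_iff_eq_mul.1 h
  have hnorm : ∀ x : C, (∀ w (hw : w ∈ Φ.V), ∃ w' : C, (w' : G) ∈ Φ.V ∧ π x * π ⟨w, hVC hw⟩ * (π x)⁻¹ = π w') →
      ∀ w ∈ Φ.V, (x : G) * w * (x : G)⁻¹ ∈ Φ.V := by
    intro x hx w hw
    obtain ⟨w', hw', e⟩ := hx w hw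
    have h := hlift w' (x * ⟨w, hVC hw⟩ * x⁻¹) hw' (by
        push_cast
        rw [show (x : G) * w * (x : G)⁻¹ * ((x : G) * w * (x : G)⁻¹) = (x : G) * (w * w) * (x : G)⁻¹ by group,
          Φ.V_sq hw]
        group)
      (by rw [map_mul, map_mul, map_inv]; exact e)
    push_cast at h
    rw [h]; exact hw'
  set T := S.mapSurjective hsur with hT
  have hTmem : ∀ q, q ∈ (T : Subgroup (C ⧸ O)) ↔ ∃ w : C, (w : G) ∈ Φ.V ∧ π w = q := by
    intro q
    show q ∈ (S : Subgroup C).map π ↔ _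
    rw [mem_map, hSV]
    simp [mem_subgroupOf]
  have hinj : ∀ a b : C, (a : G) ∈ Φ.V → (b : G) ∈ Φ.V → π b = π a → b = a := fun a b ha hb e =>
    Subtype.ext (hlift a b ha (Φ.V_sq hb) e)
  have hT4 : IsKleinFour ↥(T : Subgroup (C ⧸ O)) := by
    refine GWFour.klein_of_sq ?_ fun q => Subtype.ext ?_
    · haveI := hS4
      rw [← (IsKleinFour.card_four (G := ↥(S : Subgroup C)))]
      refine (Nat.card_congr (Equiv.ofBijective
        (fun x : (S : Subgroup C) => (⟨π x, mem_map_of_mem π x.2⟩ : (T : Subgroup (C ⧸ O)))) ⟨fun a b e => ?_, ?_⟩)).symm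
      · exact Subtype.ext (hinj _ _ (mem_subgroupOf.1 (hSV ▸ b.2)) (mem_subgroupOf.1 (hSV ▸ a.2))
          (congrArg Subtype.val e))
      · rintro ⟨q, x, hx, rfl⟩
        exact ⟨⟨x, hx⟩, rfl⟩
    · obtain ⟨w, hw, e⟩ := (hTmem _).1 q.2
      push_cast
      rw [← e, ← map_mul, show w * w = 1 from Subtype.ext (Φ.V_sq hw), map_one]
  by_cases hs : Group.IsSolvable C
  · -- the solvable case
    left
    intro x hx w hw
    refine hnorm ⟨x, hmemC.2 hx⟩ (fun w hw => ?_) w hw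
    have hnoodd : Cfsg.Lib.GenDihedral.NoOdd (C ⧸ O) := fun M hM ho => by
      have := @Cfsg.Lib.Components.le_pPrimeCore _ _ 2 M hM (Nat.coprime_two_right.2 ho)
      rw [Cfsg.Lib.Components.pPrimeCore_quotient_eq_bot] at this
      exact le_bot_iff.1 this
    have hsq : ∀ q : C ⧸ O, q * q = 1 → q ∈ (T : Subgroup (C ⧸ O)) := by
      haveI := hT4
      haveI := hs
      rcases GWFour.solvable_shape T hT4 hnoodd (Group.isSolvable_of_surjective (f := π) hsur) with h4 | he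
      · intro q _
        rw [show (T : Subgroup (C ⧸ O)) = ⊤ from eq_top_of_card_eq _ (by rw [h4]; exact IsKleinFour.card_four)]
        exact mem_top q
      · obtain ⟨e⟩ := he
        intro q hq
        by_contra hqT
        have hle : Nat.card (Option ↥(T : Subgroup (C ⧸ O))) ≤ Nat.card {x : alternatingGroup (Fin 4) // x * x = 1} := by
          refine Nat.card_le_card_of_injective (fun o => match o with
            | none => ⟨e q, by rw [← map_mul, hq, map_one]⟩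
            | some a => ⟨e a, by
                rw [← map_mul, show (a : C ⧸ O) * a = 1 from congrArg Subtype.val (GWFour.sq_of_klein a), map_one]⟩) ?_
          rintro (_ | a) (_ | b) h <;> simp only [Subtype.mk.injEq, EmbeddingLike.apply_eq_iff_eq] at h
          · rfl
          · exact absurd (h ▸ b.2) hqT
          · exact absurd (h ▸ a.2) hqT
          · rw [Subtype.ext h]
        rw [alt_four_sq, Finite.card_option, IsKleinFour.card_four] at hle
        omega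
    obtain ⟨w', hw', e⟩ := (hTmem _).1 (hsq (π ⟨x, hmemC.2 hx⟩ * π ⟨w, hVC hw⟩ * (π ⟨x, hmemC.2 hx⟩)⁻¹) (by
      rw [← map_inv, ← map_mul, ← map_mul, ← map_mul,
        show (⟨x, hmemC.2 hx⟩ * ⟨w, hVC hw⟩ * ⟨x, hmemC.2 hx⟩⁻¹ : C) * (⟨x, hmemC.2 hx⟩ * ⟨w, hVC hw⟩ * ⟨x, hmemC.2 hx⟩⁻¹) = 1 from
          Subtype.ext (by
            push_cast
            rw [show x * w * x⁻¹ * (x * w * x⁻¹) = x * (w * w) * x⁻¹ by group, Φ.V_sq hw]
            group), map_one]))
    exact ⟨w', hw', e.symm⟩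
  -- the nonsolvable case
  right
  obtain ⟨F, _, _, h8, h5, N, hN, hNi, ⟨e⟩, hNc⟩ :=
    GWFour.almost_simple Cfsg.Lib.GW.fourGroupProp S hS4 hs
  haveI := hN
  have hodd : Odd (Fintype.card F) := Nat.odd_iff.2 (by omega)
  have hTN : (T : Subgroup (C ⧸ O)) ≤ N := by
    intro q hq
    obtain ⟨w, hw, rfl⟩ := (hTmem q).1 hq
    rw [← QuotientGroup.eq_one_iff (N := N)]
    refine eq_one_of_odd_sq (hNi.of_dvd_nat (orderOf_dvd_natCard (G := (C ⧸ O) ⧸ N) _)) ?_
    rw [← QuotientGroup.mk_mul, ← map_mul, show w * w = 1 from Subtype.ext (Φ.V_sq hw), map_one, QuotientGroup.mk_one]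
  set at' : N := ⟨π ⟨t, hVC Φ.t_mem⟩, hTN ((hTmem _).2 ⟨_, Φ.t_mem, rfl⟩)⟩ with hat
  set av' : N := ⟨π ⟨Φ.v, hVC Φ.v_mem⟩, hTN ((hTmem _).2 ⟨_, Φ.v_mem, rfl⟩)⟩ with hav
  have hat2 : at' * at' = 1 := Subtype.ext (by
    show π _ * π _ = 1
    rw [← map_mul, show (⟨t, hVC Φ.t_mem⟩ * ⟨t, hVC Φ.t_mem⟩ : C) = 1 from Subtype.ext Φ.tt, map_one])
  have hav2 : av' * av' = 1 := Subtype.ext (by
    show π _ * π _ = 1
    rw [← map_mul, show (⟨Φ.v, hVC Φ.v_mem⟩ * ⟨Φ.v, hVC Φ.v_mem⟩ : C) = 1 from Subtype.ext Φ.vv, map_one])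
  have hat1 : at' ≠ 1 := fun h => Φ.t_ne (congrArg Subtype.val
    (hinj 1 ⟨t, hVC Φ.t_mem⟩ (one_mem _) Φ.t_mem ((congrArg Subtype.val h).trans (map_one π).symm)))
  have hav1 : av' ≠ 1 := fun h => Φ.v_ne_one (congrArg Subtype.val
    (hinj 1 ⟨Φ.v, hVC Φ.v_mem⟩ (one_mem _) Φ.v_mem ((congrArg Subtype.val h).trans (map_one π).symm)))
  have hatv : at' ≠ av' := fun h => Φ.v_ne (congrArg Subtype.val
    (hinj _ _ Φ.v_mem Φ.t_mem (congrArg Subtype.val h))).symm
  have hcomm : at' * av' = av' * at' := Subtype.ext (by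
    show π _ * π _ = π _ * π _
    rw [← map_mul, ← map_mul]
    exact congrArg π (Subtype.ext Φ.tv.eq))
  -- `q = 5`
  have hF5 : Fintype.card F = 5 := by
    set a := e at'
    have ha : orderOf a = 2 := orderOf_eq_prime (by rw [pow_two, ← map_mul, hat2, map_one])
      (fun h => hat1 (e.injective (h.trans e.map_one.symm)))
    have hv' : orderOf (e av') = 2 := orderOf_eq_prime (by rw [pow_two, ← map_mul, hav2, map_one])
      (fun h => hav1 (e.injective (h.trans e.map_one.symm)))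
    set Ca := centralizer ({a} : Set (Matrix.ProjectiveSpecialLinearGroup (Fin 2) F)) with hCa
    have h2 : IsPGroup 2 Ca := by
      intro p
      obtain ⟨u, s, hu, hs', hus, he, hug, hsg⟩ := exists_split (p : Matrix.ProjectiveSpecialLinearGroup (Fin 2) F)
      have hsC : s ∈ Ca := (zpowers_le.2 p.2) hsg
      have hs1 : s = 1 := by
        obtain ⟨n, rfl⟩ := e.surjective s
        obtain ⟨x, hx⟩ := hsur (n : C ⧸ O)
        have hnt : π x * π ⟨t, hVC Φ.t_mem⟩ = π ⟨t, hVC Φ.t_mem⟩ * π x := by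
          have h := mem_centralizer_singleton_iff.1 hsC
          rw [← map_mul, ← map_mul] at h
          rw [hx]
          exact congrArg Subtype.val (e.injective h)
        have hxT := hqc t Φ.t_mem Φ.t_ne x hnt
        refine AbCentMax.psl_eq_one_of_comm hodd ha hv' (fun h => hatv (e.injective h))
          (by show e at' * e av' = e av' * e at'; rw [← map_mul, hcomm, map_mul]) hs'
          (mem_centralizer_singleton_iff.1 hsC) ?_
        show e n * e av' = e av' * e n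
        rw [← map_mul, ← map_mul]
        refine congrArg e (Subtype.ext ?_)
        show (n : C ⧸ O) * π _ = π _ * (n : C ⧸ O)
        rw [← hx, ← map_mul, ← map_mul]
        exact congrArg π (Subtype.ext (Φ.T0_v hxT).eq)
      obtain ⟨i, hi⟩ := hu
      exact ⟨i, Subtype.ext (by
        rw [SubmonoidClass.coe_pow, ← he, hs1, mul_one, hi]; rfl)⟩
    obtain ⟨i, hi⟩ := IsPGroup.iff_card.1 h2
    obtain ⟨P⟩ : Nonempty (Sylow 2 (Matrix.ProjectiveSpecialLinearGroup (Fin 2) F)) := inferInstance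
    have h8' := (GWFour.sylow_card_four P (Cfsg.Agent.S0276.result rfl h8 P)).2
    have hi2 : i ≤ 2 := by
      by_contra hh
      exact h8' ((pow_dvd_pow 2 (show 3 ≤ i by omega)).trans (hi ▸ card_subgroup_dvd_card Ca))
    have := Cfsg.Lib.SubdegThree.psl_invol_cent hodd a ha
    rw [← hCa, hi] at this
    interval_cases i <;> omega
  obtain ⟨e5⟩ := Cfsg.Agent.S0253.result hF5
  set f : N ≃* alternatingGroup (Fin 5) := e.trans e5 with hf
  have fne1 : ∀ {n : N}, n ≠ 1 → f n ≠ 1 := fun h h' => h (f.injective (h'.trans f.map_one.symm))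
  have fsq : ∀ {n : N}, n * n = 1 → f n * f n = 1 := fun h => by rw [← map_mul, h, map_one]
  have fc : f at' * f av' = f av' * f at' := by rw [← map_mul, hcomm, map_mul]
  obtain ⟨bb, hb3, hba, hbc⟩ := alt_five_rot (f at') (f av') (fsq hat2) (fsq hav2) (fne1 hat1) (fne1 hav1)
    (fun h => hatv (f.injective h)) fc
  obtain ⟨bn, rfl⟩ := f.surjective bb
  have hbn3 : bn * bn * bn = 1 := f.injective (by rw [map_mul, map_mul, hb3, map_one])
  have hbna : bn * at' * bn⁻¹ = av' := f.injective (by rw [map_mul, map_mul, map_inv, hba])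
  have hbnc : bn * av' * bn⁻¹ = at' * av' := f.injective (by rw [map_mul, map_mul, map_inv, hbc, map_mul])
  have hfour : ∀ q : N, q * at' = at' * q → q * av' = av' * q → q = 1 ∨ q = at' ∨ q = av' ∨ q = at' * av' := by
    intro q h1 h2
    have := alt_five_four (f at') (f av') ⟨fsq hat2, fsq hav2, fne1 hat1, fne1 hav1, fun h => hatv (f.injective h), fc⟩
      (f q) ⟨by rw [← map_mul, h1, map_mul], by rw [← map_mul, h2, map_mul]⟩
    rw [← map_mul f at' av'] at this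
    rcases this with h | h | h | h
    · exact Or.inl (f.injective (h.trans f.map_one.symm))
    · exact Or.inr (Or.inl (f.injective h))
    · exact Or.inr (Or.inr (Or.inl (f.injective h)))
    · exact Or.inr (Or.inr (Or.inr (f.injective h)))
  -- the lift of `bn`
  obtain ⟨xb, hxb⟩ := hsur (bn : C ⧸ O)
  have hxbV : ∀ w ∈ Φ.V, (xb : G) * w * (xb : G)⁻¹ ∈ Φ.V := by
    refine hnorm xb fun w hw => ?_
    have hxbt : π xb * π ⟨t, hVC Φ.t_mem⟩ * (π xb)⁻¹ = π ⟨Φ.v, hVC Φ.v_mem⟩ := by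
      rw [hxb]; exact congrArg Subtype.val hbna
    have hxbv : π xb * π ⟨Φ.v, hVC Φ.v_mem⟩ * (π xb)⁻¹ = π ⟨t, hVC Φ.t_mem⟩ * π ⟨Φ.v, hVC Φ.v_mem⟩ := by
      rw [hxb]; exact congrArg Subtype.val hbnc
    rcases id hw with rfl | rfl | rfl | rfl
    · exact ⟨1, one_mem _, by rw [show (⟨1, hVC hw⟩ : C) = 1 from rfl, map_one, mul_one, mul_inv_cancel]⟩
    · exact ⟨⟨Φ.v, hVC Φ.v_mem⟩, Φ.v_mem, hxbt⟩
    · exact ⟨⟨t, hVC Φ.t_mem⟩ * ⟨Φ.v, hVC Φ.v_mem⟩, Φ.tv_mem, by rw [hxbv, map_mul]⟩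
    · refine ⟨⟨t, hVC Φ.t_mem⟩, Φ.t_mem, ?_⟩
      have e2 : (⟨t * Φ.v, hVC hw⟩ : C) = ⟨t, hVC Φ.t_mem⟩ * ⟨Φ.v, hVC Φ.v_mem⟩ := rfl
      have e3 : Φ.v * (t * Φ.v) = t := by rw [← mul_assoc, ← Φ.tv.eq, mul_assoc, Φ.vv, mul_one]
      rw [e2, map_mul, show π xb * (π ⟨t, hVC Φ.t_mem⟩ * π ⟨Φ.v, hVC Φ.v_mem⟩) * (π xb)⁻¹ =
        (π xb * π ⟨t, hVC Φ.t_mem⟩ * (π xb)⁻¹) * (π xb * π ⟨Φ.v, hVC Φ.v_mem⟩ * (π xb)⁻¹) by group, hxbt, hxbv,
        ← map_mul, ← map_mul]
      exact congrArg π (Subtype.ext e3)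
  obtain ⟨i, hi, hiT, hm⟩ := Φ.norm_cent hy hy1 hxbV (hmemC.1 xb.2)
  have hi0 : i ≠ 0 := by
    rintro rfl
    rw [pow_zero, inv_one, one_mul] at hiT
    refine hatv ?_
    rw [← hbna]
    refine Subtype.ext ?_
    show π _ = (bn : C ⧸ O) * π _ * (bn : C ⧸ O)⁻¹
    rw [← hxb, ← map_mul, ← map_inv, ← map_mul]
    refine congrArg π (Subtype.ext ?_)
    push_cast
    rw [(Φ.T0_t hiT).eq, mul_inv_cancel_right]
  refine ⟨hm hi0, ?_⟩
  -- `K` lies in the core
  have hKO : ∀ (x : G) (hx : x ∈ Φ.K), (⟨x, hT0C (Φ.K_le_T0 hx)⟩ : C) ∈ O := by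
    intro x hx
    set q := π ⟨x, hT0C (Φ.K_le_T0 hx)⟩ with hq
    rw [← QuotientGroup.eq_one_iff]
    change q = 1
    set φ : MulAut N := MulAut.conjNormal q with hφ
    have hfix : ∀ n : N, (∀ w : C, (w : G) ∈ Φ.V → (n : C ⧸ O) = π w → φ n = n) := by
      intro n w hw hn
      refine Subtype.ext ?_
      rw [MulAut.conjNormal_apply, hn, hq, ← map_inv, ← map_mul, ← map_mul]
      refine congrArg π (Subtype.ext ?_)
      push_cast
      rw [(Φ.V_comm_K hw hx).symm.eq, mul_inv_cancel_right]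
    have hφt : φ at' = at' := hfix at' _ Φ.t_mem rfl
    have hφv : φ av' = av' := hfix av' _ Φ.v_mem rfl
    have hφb : φ bn = bn := by
      have hu : φ bn * bn⁻¹ = 1 ∨ φ bn * bn⁻¹ = at' ∨ φ bn * bn⁻¹ = av' ∨ φ bn * bn⁻¹ = at' * av' := by
        have hbi1 : bn⁻¹ * av' * bn = at' := by rw [← hbna]; group
        have hbi2 : bn⁻¹ * (at' * av') * bn = av' := by rw [← hbnc]; group
        refine hfour _ ?_ ?_
        · have h1 : bn⁻¹ * at' * bn = at' * av' := by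
            rw [show bn⁻¹ * at' * bn = (bn⁻¹ * (at' * av') * bn) * (bn⁻¹ * av' * bn)⁻¹ by group, hbi1, hbi2,
              inv_eq_of_mul_eq_one_right hat2, ← hcomm]
          have h2 : φ bn * (at' * av') * (φ bn)⁻¹ = at' := by
            have h := congrArg φ (show bn * (at' * av') * bn⁻¹ = at' by rw [← h1]; group)
            rwa [map_mul, map_mul, map_inv, map_mul, hφt, hφv] at h
          calc φ bn * bn⁻¹ * at' = φ bn * (bn⁻¹ * at' * bn) * bn⁻¹ := by group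
            _ = φ bn * (at' * av') * (φ bn)⁻¹ * (φ bn * bn⁻¹) := by rw [h1]; group
            _ = at' * (φ bn * bn⁻¹) := by rw [h2]
        · have h2 : φ bn * at' * (φ bn)⁻¹ = av' := by
            have h := congrArg φ hbna
            rwa [map_mul, map_mul, map_inv, hφt, hφv] at h
          calc φ bn * bn⁻¹ * av' = φ bn * (bn⁻¹ * av' * bn) * bn⁻¹ := by group
            _ = φ bn * at' * (φ bn)⁻¹ * (φ bn * bn⁻¹) := by rw [hbi1]; group
            _ = av' * (φ bn * bn⁻¹) := by rw [h2]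
      set u := φ bn * bn⁻¹ with hu'
      have huφ : φ u = u := by
        rcases hu with h | h | h | h <;> rw [h]
        · exact map_one φ
        · exact hφt
        · exact hφv
        · rw [map_mul, hφt, hφv]
      have hpow : ∀ j : ℕ, (φ ^ j) bn = u ^ j * bn := by
        intro j
        induction j with
        | zero => simp
        | succ j ih =>
          rw [pow_succ', MulAut.mul_apply, ih, map_mul, map_pow, huφ, show φ bn = u * bn by rw [hu']; group,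
            ← mul_assoc, ← pow_succ]
      have hn1 : φ ^ orderOf x = 1 := by
        rw [hφ, ← map_pow, hq, ← map_pow, show (⟨x, hT0C (Φ.K_le_T0 hx)⟩ : C) ^ orderOf x = 1 from
          Subtype.ext (by push_cast; exact pow_orderOf_eq_one x), map_one, map_one]
      have h := hpow (orderOf x)
      rw [hn1, MulAut.one_apply, eq_comm, mul_eq_right] at h
      have hu2 : u * u = 1 := by
        rcases hu with h | h | h | h <;> rw [h]
        · rw [one_mul]
        · exact hat2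
        · exact hav2
        · rw [mul_assoc, ← mul_assoc av', ← hcomm, mul_assoc, hav2, mul_one, hat2]
      have hu1 : u = 1 :=
        eq_one_of_odd_sq ((Φ.K_odd hx).of_dvd_nat (orderOf_dvd_of_pow_eq_one h)) hu2
      rwa [hu', mul_inv_eq_one] at hu1
    have hψ : (f.symm.trans φ).trans f = 1 := by
      refine HallJankoType.alt_five_aut (a := f at') (b := f bn) (fsq hat2) (fne1 hat1) hb3 ?_ ?_ ?_ ?_
      · rw [hba]; exact fc.symm
      · rw [hba]; exact fun h => hatv (f.injective h).symm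
      · simp [hφt]
      · simp [hφb]
    have : q ∈ centralizer (N : Set (C ⧸ O)) := by
      refine mem_centralizer_iff.2 fun n hn => ?_
      have h := congrArg (fun ψ : MulAut (alternatingGroup (Fin 5)) => ψ (f ⟨n, hn⟩)) hψ
      simp only [MulEquiv.trans_apply, MulEquiv.symm_apply_apply, MulAut.one_apply, f.injective.eq_iff] at h
      have h' := congrArg Subtype.val h
      rw [MulAut.conjNormal_apply] at h'
      exact (mul_inv_eq_iff_eq_mul.1 h').symm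
    rwa [hNc, mem_bot] at this
  -- `N` is everything
  have hNtop : N = ⊤ := by
    refine eq_top_iff.2 fun q _ => ?_
    have hfr : normalizer ((((T.subtype hTN : Sylow 2 N) : Subgroup N).map N.subtype : Subgroup (C ⧸ O)) : Set (C ⧸ O)) ⊔ N = ⊤ :=
      Sylow.normalizer_sup_eq_top (T.subtype hTN)
    have hTeq : ((T.subtype hTN : Sylow 2 N) : Subgroup N).map N.subtype = (T : Subgroup (C ⧸ O)) :=
      subgroupOf_map_subtype _ _ |>.trans (inf_eq_left.2 hTN)
    rw [hTeq] at hfr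
    have hqm : q ∈ normalizer ((T : Subgroup (C ⧸ O)) : Set (C ⧸ O)) ⊔ N := hfr ▸ mem_top q
    rw [← SetLike.mem_coe, mul_normal _ N] at hqm
    obtain ⟨p, hp, n, hn, rfl⟩ := hqm
    refine mul_mem ?_ hn
    obtain ⟨x, rfl⟩ := hsur p
    have hxV : ∀ w ∈ Φ.V, (x : G) * w * (x : G)⁻¹ ∈ Φ.V := by
      refine hnorm x fun w hw => ?_
      obtain ⟨w', hw', e'⟩ := (hTmem _).1 ((mem_normalizer_iff.1 hp _).1 ((hTmem _).2 ⟨⟨w, hVC hw⟩, hw, rfl⟩))
      exact ⟨w', hw', e'.symm⟩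
    obtain ⟨j, hj, hjT, -⟩ := Φ.norm_cent hy hy1 hxV (hmemC.1 x.2)
    have hT0N : ∀ c : C, (c : G) ∈ Φ.T0 → π c ∈ N := by
      rintro c ⟨w, hw, y', hy', hc⟩
      have hc' : c = ⟨w, hVC hw⟩ * ⟨y', hT0C (Φ.K_le_T0 hy')⟩ := Subtype.ext hc
      rw [hc', map_mul, show π ⟨y', hT0C (Φ.K_le_T0 hy')⟩ = 1 from (QuotientGroup.eq_one_iff _).2 (hKO y' hy'), mul_one]
      exact hTN ((hTmem _).2 ⟨_, hw, rfl⟩)
    have hmC : Φ.m ∈ C := hmemC.2 (hm hi0)
    have hmN : π ⟨Φ.m, hmC⟩ ∈ N := by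
      have hmp : π (⟨Φ.m, hmC⟩ ^ i) ∈ N := by
        have e' : ⟨Φ.m, hmC⟩ ^ i = xb * ((⟨Φ.m, hmC⟩ ^ i)⁻¹ * xb)⁻¹ := by group
        rw [e', map_mul, map_inv, hxb]
        refine mul_mem bn.2 (inv_mem (hT0N _ ?_))
        push_cast
        exact hiT
      have hm2 : (⟨Φ.m, hmC⟩ : C) = (⟨Φ.m, hmC⟩ ^ i) ^ i := Subtype.ext (by
        push_cast
        rw [← pow_mul, Φ.m_pow_mod, show i * i % 3 = 1 by rcases (show i = 1 ∨ i = 2 by omega) with e | e <;> subst e <;> norm_num,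
          pow_one])
      rw [hm2, map_pow]
      exact pow_mem hmp i
    have e' : x = ⟨Φ.m, hmC⟩ ^ j * ((⟨Φ.m, hmC⟩ ^ j)⁻¹ * x) := by group
    rw [e', map_mul, map_pow]
    refine mul_mem (pow_mem hmN j) (hT0N _ ?_)
    push_cast
    exact hjT
  refine ⟨((f.toMonoidHom.comp (MulEquiv.subgroupCongr hNtop).symm.toMonoidHom).comp
    Subgroup.topEquiv.symm.toMonoidHom).comp π, ?_, fun x => ?_⟩
  · exact ((f.surjective.comp (MulEquiv.subgroupCongr hNtop).symm.surjective).comp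
      Subgroup.topEquiv.symm.surjective).comp hsur
  · rw [MonoidHom.comp_apply]
    rw [map_eq_one_iff _ (show Function.Injective _ from (f.injective.comp (MulEquiv.subgroupCongr hNtop).symm.injective).comp
      Subgroup.topEquiv.symm.injective), hπ, QuotientGroup.mk'_apply, QuotientGroup.eq_one_iff]
    exact ⟨hOK x, fun h => hKO _ h⟩

/-- With a quotient `A₅` the element of order three centralizes `K`. -/
theorem comm_of_five {y : G} (hy : y ∈ Φ.K) {π : ↥(centralizer ({y} : Set G)) →* alternatingGroup (Fin 5)}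
    (hsur : Function.Surjective π) (hker : ∀ x, π x = 1 ↔ (x : G) ∈ Φ.K) :
    ∀ x : G, Commute x y → ∀ u ∈ Φ.K, Commute x u := by
  classical
  set KC := Φ.K.subgroupOf (centralizer ({y} : Set G)) with hKC
  have hkerC : π.ker = KC := by ext x; rw [MonoidHom.mem_ker, hker, mem_subgroupOf]
  have hT0C : ∀ x ∈ Φ.T0, x ∈ centralizer ({y} : Set G) := fun x hx => mem_centralizer_singleton_iff.2 (Φ.T0_comm hx (Φ.K_le_T0 hy))
  haveI : KC.Normal := hkerC ▸ inferInstance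
  set D : Subgroup (centralizer ({y} : Set G)) := centralizer (KC : Set (centralizer ({y} : Set G))) with hD
  haveI : D.Normal := Subgroup.normal_centralizer
  haveI : Fact (Nat.Prime 5) := ⟨by norm_num⟩
  haveI : (D.map π).Normal := (inferInstance : D.Normal).map π hsur
  haveI : IsSimpleGroup (alternatingGroup (Fin 5)) := alternatingGroup.isSimpleGroup_five
  rcases IsSimpleGroup.eq_bot_or_eq_top_of_normal (D.map π) inferInstance with e | e
  · exfalso
    have ht : (⟨t, hT0C t (Φ.V_le_T0 Φ.t_mem)⟩ : centralizer ({y} : Set G)) ∈ D := mem_centralizer_iff.2 fun u hu =>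
      Subtype.ext (Φ.K_t (mem_subgroupOf.1 hu)).eq
    have := e ▸ mem_map_of_mem π ht
    rw [mem_bot, hker] at this
    exact Φ.t_ne (Φ.eq_one_of_mem_inf Φ.t_mem this)
  · intro x hx u hu
    have hxC : x ∈ centralizer ({y} : Set G) := mem_centralizer_singleton_iff.2 hx.eq
    obtain ⟨d, hd, hde⟩ : π ⟨x, hxC⟩ ∈ D.map π := e ▸ mem_top _
    have hk : ((d⁻¹ * ⟨x, hxC⟩ : centralizer ({y} : Set G)) : G) ∈ Φ.K := (hker _).1 (by rw [map_mul, map_inv, hde, inv_mul_cancel])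
    have hdu : Commute (d : G) u := by
      have h := mem_centralizer_iff.1 hd ⟨u, hT0C u (Φ.K_le_T0 hu)⟩ (mem_subgroupOf.2 hu)
      exact (congrArg Subtype.val h).symm
    push_cast at hk
    have := hdu.mul_left (Φ.K_comm hk hu)
    rwa [mul_inv_cancel_left] at this

end Frame

end Cfsg.Lib.Ree
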