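import Cfsg.Agent.Ree.Torus.Frame
import Cfsg.Agent.Ree.Section.Spec

/-!
The functions induced from `T0 = V × K` and what the assembly uses of them; see `notes/ree_torus_v2.md`.

The index `0` belongs to the principal character `ν` of `V`, the indices `1, 2, 3` to the characters with kernel
`⟨t⟩`, `⟨v⟩`, `⟨tv⟩`; `a i θ χ` is the multiplicity of `χ` in the function induced from `ν (θ - 1)`.
-/

set_option autoImplicit false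

namespace Cfsg.Lib.Ree

open Cfsg Cfsg.Lib.Blocks
open scoped ComplexConjugate

universe u v

variable {G : Type u} [Group G] [Fintype G] {t : G} {E : Subgroup G} [Fintype E]

/-- The multiplicities and their properties, when `m` moves an element of `K`. -/
structure TorusFun {Q : ℤ} (Tb : PSLTable E Q) where
  a : Fin 4 → (Tb.K →* ℂˣ) → IrrCharacter G → ℤ
  θ₀ : Tb.K →* ℂˣ
  θ₀_ne : θ₀ ≠ 1
  big : 7 ≤ Nat.card Tb.K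
  rel : ∀ (χ : IrrCharacter G) (u : ℤ), (∀ y : Tb.K, y ≠ 1 → (χ : G → ℂ) (t * ((y : E) : G)) = u) →
    ∀ θ, θ ≠ 1 → ∀ i, i ≠ 0 → a i θ χ = a 1 θ χ ∧ a i θ χ = a 0 θ χ + u
  congr : ∀ (χ : IrrCharacter G) (u α : ℤ), (∀ y : Tb.K, y ≠ 1 → (χ : G → ℂ) (t * ((y : E) : G)) = u) →
    (∀ θ, θ ≠ 1 → a 1 θ χ = α) → (Nat.card Tb.K : ℤ) ∣ (Chars.deg (χ : G → ℂ) : ℤ) + 4 * α - u
  one : ∀ (χ : IrrCharacter G), ((χ : G → ℂ) = fun _ => 1) → ∀ θ, θ ≠ 1 → ∀ i, a i θ χ = if i = 0 then -1 else 0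
  at_one : ∀ θ, θ ≠ 1 → ∀ i, ∑ χ : IrrCharacter G, (a i θ χ : ℂ) * (χ : G → ℂ) 1 = 0
  at_t : ∀ θ, θ ≠ 1 → ∀ i, ∑ χ : IrrCharacter G, (a i θ χ : ℂ) * (χ : G → ℂ) t = 0
  norm : ∀ θ, θ ≠ 1 → ∀ i, i ≠ 0 → ∑ χ : IrrCharacter G, a i θ χ ^ 2 = 3
  norm_zero : ∑ χ : IrrCharacter G, a 0 θ₀ χ ^ 2 = 7
  inner_theta : ∀ θ θ', θ ≠ 1 → θ' ≠ 1 → θ' ≠ θ → θ' ≠ θ⁻¹ → ∀ i, i ≠ 0 →
    ∑ χ : IrrCharacter G, a i θ χ * a i θ' χ = 2
  inner_four : ∀ i j, i ≠ 0 → j ≠ 0 → i ≠ j → ∑ χ : IrrCharacter G, a i θ₀ χ * a j θ₀ χ = 2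
  inner_zero : ∀ i, i ≠ 0 → ∑ χ : IrrCharacter G, a i θ₀ χ * a 0 θ₀ χ = 0
  target_x : ∀ θ, θ ≠ 1 → ∀ i, ∑ χ : IrrCharacter G, (a i θ χ : ℂ) * coord t E χ Tb.x = 0
  target_al : ∀ θ, θ ≠ 1 → ∀ i, ∑ χ : IrrCharacter G, (a i θ χ : ℂ) * coord t E χ Tb.al = if i = 0 then -3 else 1
  target_be : ∀ θ, θ ≠ 1 → ∀ i, ∑ χ : IrrCharacter G, (a i θ χ : ℂ) * coord t E χ Tb.be = if i = 0 then -3 else 1
  target_psi : ∀ θ, θ ≠ 1 → ∀ i j, ∑ χ : IrrCharacter G, (a i θ χ : ℂ) * coord t E χ (Tb.psi j) = 0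
  /-- summed over the four characters of `V` -/
  phi_sum : ∀ θ', θ' ≠ 1 → ∑ i : Fin 4, ∑ χ : IrrCharacter G, (a i θ₀ χ : ℂ) * coord t E χ (Tb.phi θ') = 0
  phi_ne : ∀ θ, θ ≠ 1 → ∀ i, i ≠ 0 → ∑ χ : IrrCharacter G, (a i θ χ : ℂ) * coord t E χ (Tb.phi θ) ≠ 0
  phi_ne_zero : ∑ χ : IrrCharacter G, (a 0 θ₀ χ : ℂ) * coord t E χ (Tb.phi θ₀) ≠ 0
  count : ∀ θ, θ ≠ 1 → ∀ i, i ≠ 0 →
    ∑ χ : IrrCharacter G, (χ : G → ℂ) t ^ 2 * (a i θ χ : ℂ) / (χ : G → ℂ) 1 = 0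
  count_zero : ∑ χ : IrrCharacter G, (χ : G → ℂ) t ^ 2 * (a 0 θ₀ χ : ℂ) / (χ : G → ℂ) 1 =
    -((Q : ℂ) - 1) * Q * ((Q : ℂ) ^ 2 - 1) / ((Subgroup.centralizer ({t} : Set G)).index : ℂ)

/-- The target of the piece `R-torus`: the functions exist when `m` moves an element of `K`, and `m` does not
centralize `K`. -/
def TorusSpec : Prop :=
  ∀ (G : Type u) [Group G] [Fintype G] (t : G) (E : Subgroup G) [Fintype E] (F : Type v) [Field F] [Fintype F],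
    Setting t E F → ∀ Tb : PSLTable E (signedCard F), SectFacts t E F → Nonempty (TorusFun (t := t) Tb)

/-- The target of the piece `R-assembly`. -/
def AssemblySpec : Prop :=
  ∀ (G : Type u) [Group G] [Fintype G] (t : G) (E : Subgroup G) [Fintype E] (F : Type v) [Field F] [Fintype F],
    Setting t E F → ∀ (Tb : PSLTable E (signedCard F)) (M : Ideal AlgInt), IsPModular 2 M →
      SectFacts t E F → SectBlock t E Tb M → RowFamily t E Tb → TorusFun (t := t) Tb →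
      ∃ m : ℕ, 1 ≤ m ∧ Fintype.card F = 3 ^ (2 * m + 1) ∧
        Nat.card G = (3 ^ (2 * m + 1)) ^ 3 * ((3 ^ (2 * m + 1)) ^ 3 + 1) * (3 ^ (2 * m + 1) - 1)

end Cfsg.Lib.Ree
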