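import Mathlib
import Cfsg.Agent.S0205

/-!
A counting lemma: an involutory automorphism of a group of odd order inverting a large self-centralizing cyclic
subgroup and fixing few elements.
-/

set_option autoImplicit false
set_option linter.unusedSectionVars false

namespace Cfsg.Lib.Ree.Kill

open Subgroup

universe u

variable {Y : Type u} [Group Y] [Finite Y]

theorem card_ne {X : Type*} [Finite X] (a : X) : Nat.card {x : X // ¬ x = a} = Nat.card X - 1 := by
  classical
  haveI := Fintype.ofFinite X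
  rw [Nat.card_eq_fintype_card, Nat.card_eq_fintype_card, Fintype.card_subtype_compl,
    Fintype.card_subtype_eq]

theorem eq_one_of_sq (hY : Odd (Nat.card Y)) {x : Y} (h : x * x = 1) : x = 1 :=
  orderOf_eq_one_iff.1 (Nat.Coprime.eq_one_of_dvd
    (Nat.coprime_two_right.2 (hY.of_dvd_nat (orderOf_dvd_natCard x)))
    (orderOf_dvd_of_pow_eq_one (by rw [pow_two]; exact h)))

theorem exists_root (hY : Odd (Nat.card Y)) (x : Y) : ∃ j : ℕ, x = (x ^ j) * (x ^ j) := by
  obtain ⟨k, hk⟩ := hY.of_dvd_nat (orderOf_dvd_natCard x)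
  exact ⟨k + 1, by rw [← pow_add, show k + 1 + (k + 1) = orderOf x + 1 by omega, pow_succ, pow_orderOf_eq_one,
    one_mul]⟩

theorem exists_abelian (hY : Odd (Nat.card Y)) (hne : Nontrivial Y) :
    ∃ A : Subgroup Y, A.Characteristic ∧ A ≠ ⊥ ∧ ∀ a ∈ A, ∀ b ∈ A, a * b = b * a := by
  classical
  have hs : Group.IsSolvable Y := Cfsg.Agent.S0205.result hY
  obtain ⟨n, hn⟩ := hs.solvable
  have hex : ∃ n, derivedSeries Y n = ⊥ := ⟨n, hn⟩
  have h0 : Nat.find hex ≠ 0 := fun e => by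
    have h := Nat.find_spec hex
    rw [e, derivedSeries_zero] at h
    exact top_ne_bot h
  obtain ⟨i, hi⟩ := Nat.exists_eq_succ_of_ne_zero h0
  refine ⟨derivedSeries Y i, derivedSeries_characteristic Y i, Nat.find_min hex (by omega), fun a ha b hb => ?_⟩
  have h := Nat.find_spec hex
  rw [hi, derivedSeries_succ, commutator_eq_bot_iff_le_centralizer] at h
  exact (mem_centralizer_iff.1 (h ha) b hb).symm

/-- The counting lemma. -/
theorem count_kill (φ : MulAut Y) (hφ : ∀ x, φ (φ x) = x) (hY : Odd (Nat.card Y)) (K : Subgroup Y)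
    (hcomm : ∀ a ∈ K, ∀ b ∈ K, a * b = b * a) (hinv : ∀ k ∈ K, φ k = k⁻¹)
    (hC : ∀ k ∈ K, k ≠ 1 → ∀ c : Y, c * k = k * c → c ∈ K)
    (hN : ∀ k ∈ K, k ≠ 1 → ∀ h : Y, φ h = h → h * k * h⁻¹ ∈ K → h = 1)
    (hfix : ∃ h : Y, φ h = h ∧ h ≠ 1) (hk : 1 < Nat.card K)
    (hsmall : Nat.card {h : Y // φ h = h} + 1 < 2 * Nat.card K) : False := by
  classical
  haveI := Fintype.ofFinite Y
  have hnt : Nontrivial Y := by
    obtain ⟨h, -, h1⟩ := hfix
    exact ⟨⟨h, 1, h1⟩⟩
  obtain ⟨A, hA, hAb, hAc⟩ := exists_abelian hY hnt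
  haveI := hA
  have hφA : ∀ x ∈ A, φ x ∈ A := fun x hx => by
    have h := Subgroup.characteristic_iff_map_eq.1 hA φ
    exact h ▸ mem_map_of_mem _ hx
  have hconj : ∀ g : Y, ∀ x ∈ A, g * x * g⁻¹ ∈ A := fun g x hx => (inferInstance : A.Normal).conj_mem x hx g
  -- `A` meets `K` trivially
  have hAK : ∀ k ∈ K, k ∈ A → k = 1 := by
    intro k hk hkA
    by_contra hk1
    have hAle : ∀ a ∈ A, a ∈ K := fun a ha => hC k hk hk1 a (hAc a ha k hkA)
    obtain ⟨h, hh, hh1⟩ := hfix
    exact hh1 (hN k hk hk1 h hh (hAle _ (hconj h k hkA)))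
  have hfree : ∀ k ∈ K, k ≠ 1 → ∀ x ∈ A, x * k = k * x → x = 1 := fun k hk hk1 x hx hxk =>
    hAK x (hC k hk hk1 x hxk) hx
  have hK1 : ∀ k ∈ K, k * k = 1 → k = 1 := fun k _ h => eq_one_of_sq hY h
  -- the twisted fixed and inverted sets
  let eps : Bool → Y → Y := fun s x => if s then x else x⁻¹
  let S : Bool → Y → Type u := fun s g => {x : Y // x ∈ A ∧ φ x = (g * g)⁻¹ * eps s x * (g * g)}
  have hdisj : ∀ s s' (g g' : Y), g ∈ K → g' ∈ K → (s, g) ≠ (s', g') → ∀ x ∈ A,
      φ x = (g * g)⁻¹ * eps s x * (g * g) → φ x = (g' * g')⁻¹ * eps s' x * (g' * g') → x = 1 := by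
    intro s s' g g' hg hg' hne x hx h1 h2
    set d := (g' * g') * (g * g)⁻¹ with hd
    have hdK : d ∈ K := mul_mem (mul_mem hg' hg') (inv_mem (mul_mem hg hg))
    have e : d * eps s x * d⁻¹ = eps s' x := by
      rw [hd, show g' * g' * (g * g)⁻¹ * eps s x * (g' * g' * (g * g)⁻¹)⁻¹ =
        g' * g' * ((g * g)⁻¹ * eps s x * (g * g)) * (g' * g')⁻¹ by simp only [mul_inv_rev, inv_inv, mul_assoc], ← h1, h2]
      group
    have hd1 : g ≠ g' → d ≠ 1 := by
      intro hne' h
      rw [hd, mul_inv_eq_one] at h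
      apply hne'
      have hc := hcomm g hg g'⁻¹ (inv_mem hg')
      have : g * g'⁻¹ * (g * g'⁻¹) = 1 := by
        rw [show g * g'⁻¹ * (g * g'⁻¹) = g * (g'⁻¹ * g) * g'⁻¹ by group, ← hc,
          show g * (g * g'⁻¹) * g'⁻¹ = g * g * (g' * g')⁻¹ by group, h, mul_inv_cancel]
      exact mul_inv_eq_one.1 (hK1 _ (mul_mem hg (inv_mem hg')) this)
    by_cases hs : s = s'
    · subst hs
      have hne' : g ≠ g' := fun h => hne (by rw [h])
      have hc : d * eps s x = eps s x * d := mul_inv_eq_iff_eq_mul.1 e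
      have hx' : eps s x ∈ A := by cases s <;> simp [eps, hx]
      have := hfree d hdK (hd1 hne') _ hx' hc.symm
      cases s <;> simpa [eps] using this
    · have e' : d * x * d⁻¹ = x⁻¹ := by
        cases s <;> cases s' <;> simp only [ne_eq, not_true_eq_false, eps, if_true,
          Bool.false_eq_true, if_false] at hs e ⊢
        · have e2 := congrArg Inv.inv e
          simp only [mul_inv_rev, inv_inv] at e2
          rwa [← mul_assoc] at e2
        · exact e
      by_cases hd0 : d = 1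
      · rw [hd0] at e'
        refine eq_one_of_sq hY ?_
        nth_rw 1 [show x = x⁻¹ by simpa using e']
        exact inv_mul_cancel x
      · have hd2 : d * d ≠ 1 := fun h => hd0 (hK1 d hdK h)
        refine hfree (d * d) (mul_mem hdK hdK) hd2 x hx ?_
        refine (mul_inv_eq_iff_eq_mul.1 ?_).symm
        rw [show d * d * x * (d * d)⁻¹ = d * (d * x * d⁻¹) * d⁻¹ by group, e',
          show d * x⁻¹ * d⁻¹ = (d * x * d⁻¹)⁻¹ by group, e', inv_inv]
  -- conjugates
  have hSconj : ∀ s g, g ∈ K → ∀ x : S s 1, g * x.1 * g⁻¹ ∈ A ∧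
      φ (g * x.1 * g⁻¹) = (g * g)⁻¹ * eps s (g * x.1 * g⁻¹) * (g * g) := by
    intro s g hg x
    refine ⟨hconj g _ x.2.1, ?_⟩
    have hx := x.2.2
    simp only [mul_one, inv_one, one_mul] at hx
    rw [map_mul, map_mul, map_inv, hinv g hg, hx, inv_inv]
    cases s <;> simp only [eps, Bool.false_eq_true, if_false, if_true] <;> group
  set a := Nat.card (S true 1)
  set b := Nat.card (S false 1)
  -- the decomposition
  have hab : Nat.card A = a * b := by
    rw [← Nat.card_prod]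
    refine (Nat.card_congr (Equiv.ofBijective
      (fun p : S true 1 × S false 1 => (⟨p.1.1 * p.2.1, mul_mem p.1.2.1 p.2.2.1⟩ : A)) ⟨?_, ?_⟩)).symm
    · rintro ⟨⟨p, hp, hpf⟩, ⟨i, hi, hii⟩⟩ ⟨⟨p', hp', hpf'⟩, ⟨i', hi', hii'⟩⟩ e
      simp only [Subtype.mk.injEq] at e
      simp only [eps, Bool.false_eq_true, if_false, if_true, mul_one, inv_one, one_mul] at hpf hii hpf' hii'
      have e1 : p'⁻¹ * p = i' * i⁻¹ := by rw [eq_mul_inv_iff_mul_eq, mul_assoc, e, inv_mul_cancel_left]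
      have e2 : p'⁻¹ * p = 1 := by
        refine eq_one_of_sq hY ?_
        have f1 : φ (p'⁻¹ * p) = p'⁻¹ * p := by rw [map_mul, map_inv, hpf, hpf']
        have f2 : φ (i' * i⁻¹) = (i' * i⁻¹)⁻¹ := by
          rw [map_mul, map_inv, hii, hii', mul_inv_rev, inv_inv]
          exact hAc _ (inv_mem hi') _ hi
        rw [← e1, f1] at f2
        nth_rw 1 [f2]
        exact inv_mul_cancel _
      rw [inv_mul_eq_one] at e2
      subst e2
      have := mul_left_cancel e
      subst this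
      rfl
    · rintro ⟨x, hx⟩
      set u := x⁻¹ * φ x with hu
      have huA : u ∈ A := mul_mem (inv_mem hx) (hφA x hx)
      have hui : φ u = u⁻¹ := by rw [hu, map_mul, map_inv, hφ, mul_inv_rev, inv_inv]
      obtain ⟨j, hj⟩ := exists_root hY u
      set r := u ^ j with hr
      have hrA : r ∈ A := pow_mem huA j
      have hri : φ r = r⁻¹ := by rw [hr, map_pow, hui, inv_pow]
      have hfx : φ (x * r) = x * r := by
        rw [map_mul, hri, show φ x = x * u by rw [hu]; group, hj]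
        group
      refine ⟨(⟨x * r, mul_mem hx hrA, ?_⟩, ⟨r⁻¹, inv_mem hrA, ?_⟩), Subtype.ext (mul_inv_cancel_right x r)⟩
      · simpa [eps] using hfx
      · simp [eps, hri]
  -- an element of `K`
  obtain ⟨g, hg, hg1⟩ : ∃ g ∈ K, g ≠ 1 := by
    haveI : Nontrivial K := Finite.one_lt_card_iff_nontrivial.1 hk
    obtain ⟨⟨g, hg⟩, hg1⟩ := exists_ne (1 : K)
    exact ⟨g, hg, fun e => hg1 (Subtype.ext e)⟩
  have hsq : ∀ s, Nat.card (S s 1) * Nat.card (S s 1) ≤ Nat.card A := by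
    intro s
    rw [← Nat.card_prod]
    refine Nat.card_le_card_of_injective
      (fun p => (⟨p.1.1 * (g * p.2.1 * g⁻¹), mul_mem p.1.2.1 (hconj g _ p.2.2.1)⟩ : A)) ?_
    rintro ⟨p, r⟩ ⟨p', r'⟩ e
    simp only [Subtype.mk.injEq] at e
    have e1 : p'.1⁻¹ * p.1 = g * r'.1 * g⁻¹ * (g * r.1 * g⁻¹)⁻¹ := by
      rw [eq_mul_inv_iff_mul_eq, mul_assoc, e, inv_mul_cancel_left]
    have hp : φ (p'.1⁻¹ * p.1) = (1 * 1)⁻¹ * eps s (p'.1⁻¹ * p.1) * (1 * 1) := by
      rw [map_mul, map_inv, p.2.2, p'.2.2]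
      cases s <;> simp [eps]
      exact hAc _ p'.2.1 _ (inv_mem p.2.1)
    have hr : φ (p'.1⁻¹ * p.1) = (g * g)⁻¹ * eps s (p'.1⁻¹ * p.1) * (g * g) := by
      have hm : φ (r'.1 * r.1⁻¹) = (1 * 1)⁻¹ * eps s (r'.1 * r.1⁻¹) * (1 * 1) := by
        rw [map_mul, map_inv, r.2.2, r'.2.2]
        cases s <;> simp [eps]
        exact hAc _ (inv_mem r'.2.1) _ r.2.1
      rw [e1, show g * r'.1 * g⁻¹ * (g * r.1 * g⁻¹)⁻¹ = g * (r'.1 * r.1⁻¹) * g⁻¹ by group]
      exact (hSconj s g hg ⟨_, mul_mem r'.2.1 (inv_mem r.2.1), hm⟩).2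
    have h1 := hdisj s s 1 g (one_mem K) hg (fun h => hg1 (congrArg Prod.snd h).symm) _
      (mul_mem (inv_mem p'.2.1) p.2.1) hp hr
    rw [inv_mul_eq_one] at h1
    rw [← h1] at e
    have h2 : r.1 = r'.1 := mul_left_cancel (mul_right_cancel (mul_left_cancel e))
    exact Prod.ext (Subtype.ext h1.symm) (Subtype.ext h2)
  have hS1 : ∀ s, Nonempty (S s 1) := fun s => ⟨⟨1, one_mem A, by cases s <;> simp [eps]⟩⟩
  have ha0 : 0 < a := by haveI := hS1 true; haveI : Finite (S true 1) := Subtype.finite; exact Nat.card_pos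
  have hb0 : 0 < b := by haveI := hS1 false; haveI : Finite (S false 1) := Subtype.finite; exact Nat.card_pos
  have e1 := hsq true
  have e2 := hsq false
  rw [hab] at e1 e2
  have hba : a = b := by
    have h1 : a ≤ b := Nat.le_of_mul_le_mul_left e1 ha0
    have h2 : b ≤ a := Nat.le_of_mul_le_mul_right e2 hb0
    omega
  -- the count
  have hcount : Nat.card K * (a - 1) + Nat.card K * (b - 1) ≤ Nat.card A - 1 := by
    let N : Bool → Type u := fun s => {x : S s 1 // x.1 ≠ 1}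
    have hN' : ∀ s, Nat.card (N s) = Nat.card (S s 1) - 1 := by
      intro s
      haveI : Finite (S s 1) := Subtype.finite
      have : Nat.card (N s) = Nat.card {x : S s 1 // ¬ x = ⟨1, one_mem A, by cases s <;> simp [eps]⟩} :=
        Nat.card_congr (Equiv.subtypeEquivRight fun x => ⟨fun h e => h (congrArg Subtype.val e),
          fun h e => h (Subtype.ext e)⟩)
      exact this.trans (card_ne (⟨1, one_mem A, by cases s <;> simp [eps]⟩ : S s 1))
    have hA1 : Nat.card {x : A // x ≠ 1} = Nat.card A - 1 := by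
      exact card_ne (1 : A)
    rw [← hA1, ← hN' true, ← hN' false, ← Nat.card_prod, ← Nat.card_prod, ← Nat.card_sum]
    let f : ∀ s, K × N s → {x : A // x ≠ 1} := fun s p =>
      ⟨⟨(p.1 : Y) * p.2.1.1 * (p.1 : Y)⁻¹, (hSconj s _ p.1.2 p.2.1).1⟩, fun h => p.2.2 (by
        have h' := congrArg Subtype.val h
        simp only [OneMemClass.coe_one] at h'
        rwa [mul_inv_eq_one, mul_eq_left] at h')⟩
    have hkey : ∀ s s' (p : K × N s) (p' : K × N s'), f s p = f s' p' → s = s' ∧ p.1 = p'.1 := by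
      intro s s' p p' e
      have e' : (p.1 : Y) * p.2.1.1 * (p.1 : Y)⁻¹ = (p'.1 : Y) * p'.2.1.1 * (p'.1 : Y)⁻¹ :=
        congrArg (fun x : {x : A // x ≠ 1} => ((x : A) : Y)) e
      by_contra hne
      have := hdisj s s' p.1 p'.1 p.1.2 p'.1.2 (fun h => hne ⟨congrArg Prod.fst h, Subtype.ext (congrArg Prod.snd h)⟩)
        _ (hSconj s _ p.1.2 p.2.1).1 (hSconj s _ p.1.2 p.2.1).2 (by rw [e']; exact (hSconj s' _ p'.1.2 p'.2.1).2)
      exact (f s p).2 (Subtype.ext this)
    haveI : ∀ s, Finite (S s 1) := fun s => Subtype.finite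
    refine Nat.card_le_card_of_injective (Sum.elim (f true) (f false)) ?_
    have hsame : ∀ s (p p' : K × N s), f s p = f s p' → p = p' := by
      intro s p p' e
      obtain ⟨-, h1⟩ := hkey s s p p' e
      refine Prod.ext h1 (Subtype.ext (Subtype.ext ?_))
      have e' := congrArg (fun x : {x : A // x ≠ 1} => ((x : A) : Y)) e
      simp only [f, h1] at e'
      exact mul_left_cancel (mul_right_cancel e')
    rintro (p | p) (p' | p') e <;> simp only [Sum.elim_inl, Sum.elim_inr] at e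
    · rw [hsame _ _ _ e]
    · exact absurd (hkey _ _ _ _ e).1 (by simp)
    · exact absurd (hkey _ _ _ _ e).1 (by simp)
    · rw [hsame _ _ _ e]
  have hle : a ≤ Nat.card {h : Y // φ h = h} := by
    refine Nat.card_le_card_of_injective (fun x => ⟨x.1, by simpa [eps] using x.2.2⟩) fun x y e => ?_
    exact Subtype.ext (congrArg (fun h : {h : Y // φ h = h} => (h : Y)) e)
  have hA2 : 1 < Nat.card A := by
    haveI : Nontrivial A := (Subgroup.nontrivial_iff_ne_bot A).2 hAb
    exact Finite.one_lt_card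
  rw [hab, ← hba] at hcount hA2
  obtain ⟨a', ha'⟩ : ∃ a', a = a' + 1 := ⟨a - 1, by omega⟩
  rw [ha'] at hcount hA2 hle
  have ha'0 : 0 < a' := by rcases Nat.eq_zero_or_pos a' with h | h <;> [simp [h] at hA2; exact h]
  rw [Nat.add_sub_cancel, show (a' + 1) * (a' + 1) - 1 = a' * (a' + 2) by
    rw [show (a' + 1) * (a' + 1) = a' * (a' + 2) + 1 by ring, Nat.add_sub_cancel]] at hcount
  have h2 : 2 * Nat.card K ≤ a' + 2 := Nat.le_of_mul_le_mul_left (by linarith) ha'0
  omega

end Cfsg.Lib.Ree.Kill
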