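import Cfsg.Agent.Ree.Torus.Local
import Cfsg.Agent.Ree.Torus.Kill

/-!
The element of order three does not centralize the torus.
-/

set_option autoImplicit false
set_option linter.style.haveILetI false
set_option linter.unusedSectionVars false

namespace Cfsg.Lib.Ree

open Subgroup Cfsg.Lib.TwoTimesPSL
open scoped MatrixGroups

universe u v

set_option synthInstance.maxSize 2000 in
theorem alt_five_three : ∀ c : alternatingGroup (Fin 5), (c * c * c = 1 ∧ c ≠ 1) →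
    ∀ a : alternatingGroup (Fin 5), a * c = c * a → a = 1 ∨ a = c ∨ a = c * c := by
  decide +kernel

set_option synthInstance.maxSize 2000 in
theorem alt_five_two_fours : ∀ c : alternatingGroup (Fin 5), (c * c * c = 1 ∧ c ≠ 1) →
    ∀ p : alternatingGroup (Fin 5), (p * p = 1 ∧ p ≠ 1 ∧ p * (c * p * c⁻¹) = c * p * c⁻¹ * p) →
    ∀ q : alternatingGroup (Fin 5), (q * q = 1 ∧ q ≠ 1 ∧ q * (c * q * c⁻¹) = c * q * c⁻¹ * q) →
    ∀ r : alternatingGroup (Fin 5), (r * r = 1 ∧ r ≠ 1 ∧ r * (c * r * c⁻¹) = c * r * c⁻¹ * r) →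
    p * q = q * p ∨ p * r = r * p ∨ q * r = r * q := by
  decide +kernel

theorem alt_five_pows : ∀ x : alternatingGroup (Fin 5), x * x = 1 ∨ x * x * x = 1 ∨ x * x * x * x * x = 1 := by
  decide +kernel

theorem alt_five_normal_three : ∀ c : alternatingGroup (Fin 5), (c * c * c = 1 ∧ c ≠ 1) → c * c ≠ 1 ∧ c * c ≠ c := by
  decide +kernel

/-- The centralizer of an element of order three of `PSL(2, q)`. -/
theorem psl_cent_three {F : Type v} [Field F] [Fintype F] (hodd : Odd (Fintype.card F))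
    {y : Matrix.ProjectiveSpecialLinearGroup (Fin 2) F} (hy : orderOf y = 3) :
    2 * Nat.card (centralizer ({y} : Set (Matrix.ProjectiveSpecialLinearGroup (Fin 2) F))) = Fintype.card F + 1 ∨
      2 * Nat.card (centralizer ({y} : Set (Matrix.ProjectiveSpecialLinearGroup (Fin 2) F))) = Fintype.card F - 1 ∨
      Nat.card (centralizer ({y} : Set (Matrix.ProjectiveSpecialLinearGroup (Fin 2) F))) = Fintype.card F := by
  have h2 := Cfsg.Lib.GLTwo.two_ne_zero_of_odd hodd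
  obtain ⟨l, rfl⟩ := QuotientGroup.mk'_surjective (Subgroup.center SL(2, F)) y
  have hne : Cfsg.Lib.GLTwo.prj l ≠ 1 := fun e => by
    rw [show QuotientGroup.mk' (Subgroup.center SL(2, F)) l = 1 from e, orderOf_one] at hy; omega
  have hns : Cfsg.Lib.GLTwo.NonScalar (l : Matrix (Fin 2) (Fin 2) F) :=
    Cfsg.Lib.GLTwo.nonScalar_of_ne (fun e => hne ((Cfsg.Lib.GLTwo.prj_eq_one_iff _).2 (Or.inl e)))
      (fun e => hne ((Cfsg.Lib.GLTwo.prj_eq_one_iff _).2 (Or.inr e)))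
  have htr : (l : Matrix (Fin 2) (Fin 2) F).trace ≠ 0 := by
    intro h0
    have hll : l * l = -1 := by
      refine Subtype.ext ?_
      have hd := l.2
      rw [Matrix.det_fin_two] at hd
      rw [Matrix.trace_fin_two] at h0
      rw [Matrix.SpecialLinearGroup.coe_mul, Matrix.SpecialLinearGroup.coe_neg, Matrix.SpecialLinearGroup.coe_one]
      ext i j
      fin_cases i <;> fin_cases j <;> simp [Matrix.mul_apply, Fin.sum_univ_two]
      · linear_combination (l : Matrix (Fin 2) (Fin 2) F) 0 0 * h0 - hd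
      · linear_combination (l : Matrix (Fin 2) (Fin 2) F) 0 1 * h0
      · linear_combination (l : Matrix (Fin 2) (Fin 2) F) 1 0 * h0
      · linear_combination (l : Matrix (Fin 2) (Fin 2) F) 1 1 * h0 - hd
    have h' : Cfsg.Lib.GLTwo.prj l * Cfsg.Lib.GLTwo.prj l = 1 := by
      rw [← map_mul]; exact (Cfsg.Lib.GLTwo.prj_eq_one_iff _).2 (Or.inr hll)
    exact hne (eq_one_of_odd_sq
      (by rw [show orderOf (Cfsg.Lib.GLTwo.prj l) = 3 from hy]; decide) h')
  have hc := Cfsg.Lib.GLTwo.card_comap_cent_of_trace_ne (s := l) (Or.inl htr)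
  set Cy := centralizer ({Cfsg.Lib.GLTwo.prj l} : Set (Matrix.ProjectiveSpecialLinearGroup (Fin 2) F)) with hCy
  have hmul := Cfsg.Lib.GLTwo.index_cent_prj_mul l
  have hP := Cfsg.Lib.PSLTwoDihedral.card_P (F := F) (Nat.odd_iff.1 hodd)
  have h2C : Nat.card (Cy.comap Cfsg.Lib.GLTwo.prj) = 2 * Nat.card Cy := by
    have h := Cy.card_mul_index
    have hq : 2 * Nat.card (Matrix.ProjectiveSpecialLinearGroup (Fin 2) F) =
        Fintype.card F * (Fintype.card F ^ 2 - 1) := hP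
    rw [← hCy] at hmul
    rw [← hq, ← h, show 2 * (Nat.card Cy * Cy.index) = Cy.index * (2 * Nat.card Cy) by ring] at hmul
    exact Nat.eq_of_mul_eq_mul_left (Nat.pos_of_ne_zero Cy.index_ne_zero_of_finite) hmul
  have hk := Cfsg.Lib.GLTwo.kinds hns
  show 2 * Nat.card Cy = _ ∨ 2 * Nat.card Cy = _ ∨ Nat.card Cy = _
  rw [h2C] at hc
  rcases hk with ⟨-, h⟩ | ⟨-, h⟩ | ⟨-, h⟩
  · exact Or.inl (hc.trans h)
  · exact Or.inr (Or.inl (hc.trans h))
  · refine Or.inr (Or.inr ?_)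
    rw [← hc, Nat.gcd_eq_left (by obtain ⟨i, hi⟩ := hodd; exact ⟨i, by omega⟩)] at h
    omega

variable {G : Type u} [Group G]

/-- In a cyclic group elements of equal order generate the same subgroup. -/
theorem mem_zpowers_of_order {A : Type u} [Group A] [Finite A] [IsCyclic A] {a b : A}
    (h : orderOf b = orderOf a) : b ∈ zpowers a := by
  classical
  haveI := Fintype.ofFinite A
  set S : Finset A := Finset.univ.filter fun x => x ^ orderOf a = 1 with hS
  have hsub : (Finset.univ.filter fun x => x ∈ zpowers a) ⊆ S := fun x hx => by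
    obtain ⟨i, rfl⟩ := mem_zpowers_iff.1 (Finset.mem_filter.1 hx).2
    refine Finset.mem_filter.2 ⟨Finset.mem_univ _, ?_⟩
    rw [← zpow_natCast, ← zpow_mul, mul_comm, zpow_mul, zpow_natCast, pow_orderOf_eq_one, one_zpow]
  have hc : (Finset.univ.filter fun x => x ∈ zpowers a).card = orderOf a := by
    rw [← Nat.card_zpowers, ← Fintype.card_subtype, Nat.card_eq_fintype_card]
  have heq := Finset.eq_of_subset_of_card_le hsub (by rw [hc]; exact IsCyclic.card_pow_eq_one_le (orderOf_pos a))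
  have hb : b ∈ S := Finset.mem_filter.2 ⟨Finset.mem_univ _, by rw [← h, pow_orderOf_eq_one]⟩
  rw [← heq] at hb
  exact (Finset.mem_filter.1 hb).2

namespace Frame

variable {t : G} (Φ : Frame t) [Finite G]

theorem m_not_K : Φ.m ∉ Φ.K := fun h => by
  have := Φ.m_t
  rw [(Φ.K_t h).eq, mul_inv_cancel_right] at this
  exact Φ.v_ne this.symm

theorem m_not_T0 {i : ℕ} (h : Φ.m ^ i ∈ Φ.T0) : i % 3 = 0 :=
  Φ.m_not_fix i (by rw [(Φ.T0_t h).eq, mul_inv_cancel_right])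

/-- An involution normalising `V` and centralizing an element of `K` lies in `V`. -/
theorem mem_V_of_norm {y x : G} (hy : y ∈ Φ.K) (hy1 : y ≠ 1) (hx : ∀ w ∈ Φ.V, x * w * x⁻¹ ∈ Φ.V)
    (hxy : Commute x y) (hx2 : x * x = 1) : x ∈ Φ.V := by
  obtain ⟨i, hi, hiT, -⟩ := Φ.norm_cent hy hy1 hx hxy
  have hxt : Φ.m ^ i * t * (Φ.m ^ i)⁻¹ = x * t * x⁻¹ := by
    have h := Φ.T0_t hiT
    rw [show x * t * x⁻¹ = Φ.m ^ i * ((Φ.m ^ i)⁻¹ * x * t * ((Φ.m ^ i)⁻¹ * x)⁻¹) * (Φ.m ^ i)⁻¹ by group, h.eq,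
      mul_inv_cancel_right]
  have hi0 : i = 0 := by
    by_contra h0
    -- `x` moves `t` around the three involutions
    have hw : Φ.m ^ i * t * (Φ.m ^ i)⁻¹ ∈ Φ.V := Φ.conjPow_V Φ.t_mem i
    have hrot : ∀ w ∈ Φ.V, x * w * x⁻¹ = Φ.m ^ i * w * (Φ.m ^ i)⁻¹ := fun w hw' => by
      rw [show x * w * x⁻¹ = Φ.m ^ i * ((Φ.m ^ i)⁻¹ * x * w * ((Φ.m ^ i)⁻¹ * x)⁻¹) * (Φ.m ^ i)⁻¹ by group,
        (Φ.T0_comm hiT (Φ.V_le_T0 hw')).eq, mul_inv_cancel_right]
    have h2 : Φ.m ^ (i + i) * t * (Φ.m ^ (i + i))⁻¹ = t := by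
      have e : x * (x * t * x⁻¹) * x⁻¹ = t := by
        rw [show x * (x * t * x⁻¹) * x⁻¹ = x * x * t * (x * x)⁻¹ by group, hx2]; simp
      rw [← hxt, hrot _ hw] at e
      rw [pow_add, show Φ.m ^ i * Φ.m ^ i * t * (Φ.m ^ i * Φ.m ^ i)⁻¹ =
        Φ.m ^ i * (Φ.m ^ i * t * (Φ.m ^ i)⁻¹) * (Φ.m ^ i)⁻¹ by group]
      exact e
    have := Φ.m_not_fix _ h2
    omega
  rw [hi0, pow_zero, inv_one, one_mul] at hiT
  exact Φ.mem_V_of_sq hiT hx2

/-- An element of odd order normalising `V` and centralizing `m` and `z` is a power of `m`. -/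
theorem eq_pow_m {g : G} (hg : ∀ w ∈ Φ.V, g * w * g⁻¹ ∈ Φ.V) (hgo : Odd (orderOf g)) (hgm : Commute g Φ.m)
    (hgz : Commute g Φ.z) : ∃ i : ℕ, g = Φ.m ^ i := by
  obtain ⟨i, -, h1, h2⟩ := Φ.norm_V hg
  set x := (Φ.m ^ i)⁻¹ * g with hx
  have hc : Commute (Φ.m ^ i)⁻¹ g := (hgm.symm.pow_left i).inv_left
  have hxo : Odd (orderOf x) := by
    rw [hx]
    refine Odd.of_dvd_nat ?_ hc.orderOf_mul_dvd_mul_orderOf
    refine Odd.mul ?_ hgo
    rw [orderOf_inv]
    exact (Φ.m_ord.symm ▸ (by decide : Odd 3) : Odd (orderOf Φ.m)).of_dvd_nat (orderOf_pow_dvd i)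
  have hxz : Commute x Φ.z := ((Φ.mz.pow_left i).inv_left).mul_left hgz
  have hx1 : x = 1 := by
    rcases Φ.cenV h1 h2 with hT | hT
    · have hK := Φ.mem_K_of_odd hT hxo
      refine eq_one_of_odd_sq hxo ?_
      have h := Φ.inv x hK
      rw [hxz.symm.eq, mul_inv_cancel_right] at h
      nth_rw 2 [h]
      exact mul_inv_cancel x
    · exfalso
      apply Φ.z_T0
      have h := pow_mem hT (orderOf x)
      rw [hxz.mul_pow, pow_orderOf_eq_one, one_mul] at h
      obtain ⟨j, hj⟩ := hxo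
      rwa [hj, pow_succ, pow_mul, pow_two, Φ.zz, one_pow, one_mul] at h
  exact ⟨i, inv_mul_eq_one.1 hx1 |>.symm⟩

section Central

variable (hcen : ∀ y ∈ Φ.K, Commute Φ.m y)
include hcen

/-- The elements centralizing an element of `K` and `m`. -/
theorem cent_m {y c : G} (hy : y ∈ Φ.K) (hy1 : y ≠ 1) (hcy : Commute c y) (hcm : Commute c Φ.m) :
    ∃ y' ∈ Φ.K, ∃ i : ℕ, c = y' * Φ.m ^ i := by
  classical
  rcases Φ.cent_cases hy hy1 with hN | ⟨-, π, hsur, hker⟩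
  · obtain ⟨i, -, hiT, -⟩ := Φ.norm_cent hy hy1 (hN c hcy) hcy
    obtain ⟨w, hw, y', hy', he⟩ := hiT
    refine ⟨y', hy', i, ?_⟩
    have hc : Commute ((Φ.m ^ i)⁻¹ * c) Φ.m := ((Commute.refl Φ.m).pow_left i).inv_left.mul_left hcm
    rw [he] at hc
    have hw' : Commute Φ.m w := by
      have := (hc.mul_left (hcen y' hy').symm.inv_left).symm
      rwa [mul_inv_cancel_right] at this
    rw [Φ.m_comm_zero hw hw', one_mul] at he
    rw [(((hcen y' hy').pow_left i)).symm.eq, ← he, mul_inv_cancel_left]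
  · set c' : centralizer ({y} : Set G) := ⟨c, mem_centralizer_singleton_iff.2 hcy.eq⟩
    set m' : centralizer ({y} : Set G) := ⟨Φ.m, mem_centralizer_singleton_iff.2 (hcen y hy).eq⟩
    have hm1 : π m' ≠ 1 := fun h => Φ.m_not_K ((hker m').1 h)
    have hm3 : π m' * π m' * π m' = 1 := by
      rw [← map_mul, ← map_mul, show m' * m' * m' = 1 from Subtype.ext Φ.m3, map_one]
    have hcomm : π c' * π m' = π m' * π c' := by
      rw [← map_mul, ← map_mul]; exact congrArg π (Subtype.ext hcm.eq)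
    obtain ⟨i, hi⟩ : ∃ i : ℕ, π c' = π (m' ^ i) := by
      rcases alt_five_three _ ⟨hm3, hm1⟩ _ hcomm with h | h | h
      · exact ⟨0, by rw [h, pow_zero, map_one]⟩
      · exact ⟨1, by rw [h, pow_one]⟩
      · exact ⟨2, by rw [h, pow_two, map_mul]⟩
    have hK : ((c' * (m' ^ i)⁻¹ : centralizer ({y} : Set G)) : G) ∈ Φ.K :=
      (hker _).1 (by rw [map_mul, map_inv, hi, mul_inv_cancel])
    push_cast at hK
    exact ⟨_, hK, i, (inv_mul_cancel_right c (Φ.m ^ i)).symm⟩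

/-- An element of odd order centralizing `m` and `z` and moving an element of `K` into `K` is a power of `m`. -/
theorem norm_fix {y h : G} (hy : y ∈ Φ.K) (hy1 : y ≠ 1) (hho : Odd (orderOf h)) (hhm : Commute h Φ.m)
    (hhz : Commute h Φ.z) (hhy : h * y * h⁻¹ ∈ Φ.K) : ∃ i : ℕ, h = Φ.m ^ i := by
  classical
  haveI := Φ.cyclic_K
  -- `h` normalises the centralizer of `y`
  have hord : orderOf (h * y * h⁻¹) = orderOf y := (MulAut.conj h).orderOf_eq y
  have hgen1 : h * y * h⁻¹ ∈ zpowers y := by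
    obtain ⟨i, hi⟩ := mem_zpowers_of_order (a := (⟨y, hy⟩ : Φ.K)) (b := ⟨h * y * h⁻¹, hhy⟩)
      (by rw [orderOf_mk, orderOf_mk, hord])
    exact ⟨i, by simpa using congrArg Subtype.val hi⟩
  have hgen2 : y ∈ zpowers (h * y * h⁻¹) := by
    obtain ⟨i, hi⟩ := mem_zpowers_of_order (b := (⟨y, hy⟩ : Φ.K)) (a := ⟨h * y * h⁻¹, hhy⟩)
      (by rw [orderOf_mk, orderOf_mk, hord])
    exact ⟨i, by simpa using congrArg Subtype.val hi⟩
  have hC : ∀ {x : G}, Commute x y → Commute (h * x * h⁻¹) y := by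
    intro x hx
    obtain ⟨i, hi⟩ := hgen2
    rw [← hi]
    exact (hx.map (MulAut.conj h).toMonoidHom).zpow_right i
  have hsq : ∀ {w : G}, w ∈ Φ.V → h * w * h⁻¹ * (h * w * h⁻¹) = 1 := fun {w} hw => by
    rw [show h * w * h⁻¹ * (h * w * h⁻¹) = h * (w * w) * h⁻¹ by group, Φ.V_sq hw]; group
  rcases Φ.cent_cases hy hy1 with hN | ⟨-, π, hsur, hker⟩
  · refine Φ.eq_pow_m (fun w hw => ?_) hho hhm hhz
    have hc := hC (Φ.V_comm_K hw hy)
    exact Φ.mem_V_of_norm hy hy1 (hN _ hc) hc (hsq hw)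
  · have hiter : ∀ j : ℕ, ∀ {x : G}, Commute x y → Commute (h ^ j * x * (h ^ j)⁻¹) y := by
      intro j
      induction j with
      | zero => intro x hx; simpa using hx
      | succ j ih =>
        intro x hx
        rw [pow_succ', show h * h ^ j * x * (h * h ^ j)⁻¹ = h * (h ^ j * x * (h ^ j)⁻¹) * h⁻¹ by group]
        exact hC (ih hx)
    let P : ℕ → centralizer ({y} : Set G) := fun j =>
      ⟨h ^ j * Φ.v * (h ^ j)⁻¹, mem_centralizer_singleton_iff.2 (hiter j (Φ.V_comm_K Φ.v_mem hy)).eq⟩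
    set m' : centralizer ({y} : Set G) := ⟨Φ.m, mem_centralizer_singleton_iff.2 (hcen y hy).eq⟩
    have hP2 : ∀ j, P j * P j = 1 := fun j => Subtype.ext (by
      show h ^ j * Φ.v * (h ^ j)⁻¹ * (h ^ j * Φ.v * (h ^ j)⁻¹) = 1
      rw [show h ^ j * Φ.v * (h ^ j)⁻¹ * (h ^ j * Φ.v * (h ^ j)⁻¹) = h ^ j * (Φ.v * Φ.v) * (h ^ j)⁻¹ by group, Φ.vv]
      group)
    have hPK : ∀ j, π (P j) ≠ 1 := fun j e => by
      have h1 := eq_one_of_odd_sq (Φ.K_odd ((hker _).1 e)) (congrArg Subtype.val (hP2 j))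
      change h ^ j * Φ.v * (h ^ j)⁻¹ = 1 at h1
      rw [mul_inv_eq_one, mul_eq_left] at h1
      exact Φ.v_ne_one h1
    have hPm : ∀ j, π (P j) * (π m' * π (P j) * (π m')⁻¹) = π m' * π (P j) * (π m')⁻¹ * π (P j) := by
      intro j
      rw [← map_inv, ← map_mul, ← map_mul, ← map_mul, ← map_mul]
      refine congrArg π (Subtype.ext ?_)
      show h ^ j * Φ.v * (h ^ j)⁻¹ * (Φ.m * (h ^ j * Φ.v * (h ^ j)⁻¹) * Φ.m⁻¹) =
        Φ.m * (h ^ j * Φ.v * (h ^ j)⁻¹) * Φ.m⁻¹ * (h ^ j * Φ.v * (h ^ j)⁻¹)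
      have e : Φ.m * (h ^ j * Φ.v * (h ^ j)⁻¹) * Φ.m⁻¹ = h ^ j * (t * Φ.v) * (h ^ j)⁻¹ := by
        rw [show Φ.m * (h ^ j * Φ.v * (h ^ j)⁻¹) * Φ.m⁻¹ = (Φ.m * h ^ j) * Φ.v * (Φ.m * h ^ j)⁻¹ by group,
          ← (hhm.pow_left j).eq, ← Φ.m_v]
        group
      rw [e]
      exact ((Φ.V_comm Φ.v_mem Φ.tv_mem).map (MulAut.conj (h ^ j)).toMonoidHom).eq
    have hlift : ∀ a b, π (P a) * π (P b) = π (P b) * π (P a) →
        Commute (h ^ a * Φ.v * (h ^ a)⁻¹) (h ^ b * Φ.v * (h ^ b)⁻¹) := by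
      intro a b hab
      have hk : ((P a * P b * (P a)⁻¹ * (P b)⁻¹ : centralizer ({y} : Set G)) : G) ∈ Φ.K := (hker _).1 (by
        simp only [map_mul, map_inv]
        rw [hab, mul_inv_cancel_right, mul_inv_cancel])
      push_cast at hk
      set x := ((P a : centralizer ({y} : Set G)) : G) with hx
      set x' := ((P b : centralizer ({y} : Set G)) : G) with hx'
      have hxx : x * x = 1 := congrArg Subtype.val (hP2 a)
      have hxx' : x' * x' = 1 := congrArg Subtype.val (hP2 b)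
      set k := x * x' * x⁻¹ * x'⁻¹ with hkdef
      have hkc : Commute x' k :=
        Φ.comm_of_five hy hsur hker x' (mem_centralizer_singleton_iff.1 (P b).2) k hk
      have hsq2 : k * k = 1 := by
        have e1 : k * x' * (k * x') = 1 := by
          rw [hkdef, show x * x' * x⁻¹ * x'⁻¹ * x' * (x * x' * x⁻¹ * x'⁻¹ * x') = x * (x' * x') * x⁻¹ by group, hxx']
          group
        rw [show k * x' * (k * x') = k * (x' * k) * x' by group, hkc.eq,
          show k * (k * x') * x' = k * k * (x' * x') by group, hxx', mul_one] at e1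
        exact e1
      have hk1 := eq_one_of_odd_sq (Φ.K_odd hk) hsq2
      rw [hkdef, mul_inv_eq_one, mul_inv_eq_iff_eq_mul] at hk1
      exact hk1
    have hm1 : π m' ≠ 1 := fun e => Φ.m_not_K ((hker m').1 e)
    have hm3 : π m' * π m' * π m' = 1 := by
      rw [← map_mul, ← map_mul, show m' * m' * m' = 1 from Subtype.ext Φ.m3, map_one]
    have hp : ∀ j, π (P j) * π (P j) = 1 := fun j => by rw [← map_mul, hP2, map_one]
    obtain ⟨i, hi, hic⟩ : ∃ i, (i = 1 ∨ i = 2) ∧ Commute Φ.v (h ^ i * Φ.v * (h ^ i)⁻¹) := by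
      rcases alt_five_two_fours _ ⟨hm3, hm1⟩ _ ⟨hp 0, hPK 0, hPm 0⟩ _ ⟨hp 1, hPK 1, hPm 1⟩ _ ⟨hp 2, hPK 2, hPm 2⟩
        with e | e | e
      · exact ⟨1, Or.inl rfl, by simpa using hlift 0 1 e⟩
      · exact ⟨2, Or.inr rfl, by simpa using hlift 0 2 e⟩
      · refine ⟨1, Or.inl rfl, ?_⟩
        have := (hlift 1 2 e).map (MulAut.conj h⁻¹).toMonoidHom
        simpa [pow_two, mul_assoc] using this
    set g := h ^ i with hg
    have hgo : Odd (orderOf g) := hho.of_dvd_nat (orderOf_pow_dvd i)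
    have hsqg : ∀ {w : G}, w ∈ Φ.V → g * w * g⁻¹ * (g * w * g⁻¹) = 1 := fun {w} hw => by
      rw [show g * w * g⁻¹ * (g * w * g⁻¹) = g * (w * w) * g⁻¹ by group, Φ.V_sq hw]; group
    have hgv : g * Φ.v * g⁻¹ ∈ Φ.V := by
      refine Φ.mem_V_of_sq (Φ.mem_T0_of_comm_four hy hy1 Φ.v_mem Φ.v_ne_one hic.symm ?_) (hsqg Φ.v_mem)
      exact hiter i (Φ.V_comm_K Φ.v_mem hy)
    have hgv1 : g * Φ.v * g⁻¹ ≠ 1 := fun e => by
      rw [mul_inv_eq_one, mul_eq_left] at e; exact Φ.v_ne_one e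
    have hgt : g * t * g⁻¹ ∈ Φ.V := by
      refine Φ.mem_V_of_sq (Φ.mem_T0_of_comm_four hy hy1 hgv hgv1 ?_ (hiter i (Φ.V_comm_K Φ.t_mem hy)))
        (hsqg Φ.t_mem)
      exact Φ.tv.map (MulAut.conj g).toMonoidHom
    have hgV : ∀ w ∈ Φ.V, g * w * g⁻¹ ∈ Φ.V := by
      rintro w (rfl | rfl | rfl | rfl)
      · simp
      · exact hgt
      · exact hgv
      · rw [show g * (t * Φ.v) * g⁻¹ = (g * t * g⁻¹) * (g * Φ.v * g⁻¹) by group]
        exact mul_mem hgt hgv
    obtain ⟨j, hj⟩ := Φ.eq_pow_m hgV hgo (hhm.pow_left i) (hhz.pow_left i)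
    rcases hi with rfl | rfl
    · exact ⟨j, by rw [← hj, hg, pow_one]⟩
    · obtain ⟨l, hl⟩ := exists_sq_pow hho
      exact ⟨j * l, by rw [pow_mul, ← hj, hg, pow_two, ← hl]⟩

end Central

/-- The subgroup `K × ⟨m⟩` when `m` centralizes `K`. -/
def S9 (hcen : ∀ y ∈ Φ.K, Commute Φ.m y) : Subgroup G where
  carrier := {x | ∃ y ∈ Φ.K, ∃ i : ℕ, x = y * Φ.m ^ i}
  one_mem' := ⟨1, one_mem _, 0, by simp⟩
  inv_mem' := by
    rintro x ⟨y, hy, i, rfl⟩
    refine ⟨y⁻¹, inv_mem hy, 2 * i, ?_⟩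
    have e : (Φ.m ^ i)⁻¹ = Φ.m ^ (2 * i) := by
      rw [inv_eq_iff_mul_eq_one, ← pow_add, show i + 2 * i = orderOf Φ.m * i by rw [Φ.m_ord]; ring, pow_mul,
        pow_orderOf_eq_one, one_pow]
    rw [_root_.mul_inv_rev, e, ((hcen _ (inv_mem hy)).pow_left _).eq]
  mul_mem' := by
    rintro x x' ⟨y, hy, i, rfl⟩ ⟨y', hy', j, rfl⟩
    refine ⟨y * y', mul_mem hy hy', i + j, ?_⟩
    rw [pow_add, show y * Φ.m ^ i * (y' * Φ.m ^ j) = y * (Φ.m ^ i * y') * Φ.m ^ j by group,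
      ((hcen y' hy').pow_left i).eq]
    group

variable {E : Subgroup G} {F : Type v} [Field F] [Fintype F]

/-- When `m` centralizes `K`, 3 does not divide the order of `K`. -/
theorem not_three (H : Setting t E F) (hk : Fintype.card F = 4 * Nat.card Φ.K + 1 ∨ Fintype.card F + 1 = 4 * Nat.card Φ.K)
    (hcen : ∀ y ∈ Φ.K, Commute Φ.m y) : ¬ 3 ∣ Nat.card Φ.K := by
  classical
  intro h3
  haveI : Fact (Nat.Prime 3) := ⟨Nat.prime_three⟩
  haveI : Fact (Nat.Prime 2) := ⟨Nat.prime_two⟩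
  have h := H.hyp
  -- a conjugate of `m` in `K`
  obtain ⟨g₀, hg₀⟩ := Φ.z_conj
  set m₀ := g₀⁻¹ * Φ.m * g₀ with hm₀
  have hm₀o : orderOf m₀ = 3 := by
    rw [hm₀, show g₀⁻¹ * Φ.m * g₀ = g₀⁻¹ * Φ.m * g₀⁻¹⁻¹ by rw [inv_inv]]
    exact ((MulAut.conj g₀⁻¹).orderOf_eq Φ.m).trans Φ.m_ord
  have hm₀t : Commute m₀ t := by
    have := Φ.mz.map (MulAut.conj g₀⁻¹).toMonoidHom
    simpa [← hg₀, hm₀, mul_assoc] using this
  have hm₀E : m₀ ∈ E := h.odd_mem_E (by rw [hm₀o]; decide) hm₀t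
  have hKE : Φ.K ≤ E := fun y hy => h.odd_mem_E (Φ.K_odd hy) (Φ.K_t hy)
  obtain ⟨k₃, hk₃K, hk₃o, h₀, hh₀⟩ : ∃ k₃ ∈ Φ.K, orderOf k₃ = 3 ∧ ∃ h₀ : G, h₀⁻¹ * Φ.m * h₀ = k₃ := by
    obtain ⟨S⟩ : Nonempty (Sylow 3 Φ.K) := inferInstance
    set P : Subgroup E := ((S : Subgroup Φ.K).map Φ.K.subtype).subgroupOf E with hP
    have hPE : (S : Subgroup Φ.K).map Φ.K.subtype ≤ E := (map_subtype_le _).trans hKE
    have hP3 : IsPGroup 3 P := (S.isPGroup'.map _).comap_of_injective E.subtype E.subtype_injective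
    have hcardP : Nat.card P = Nat.card (S : Subgroup Φ.K) := by
      rw [Nat.card_congr (subgroupOfEquivOfLe hPE).toEquiv, card_map_of_injective Φ.K.subtype_injective]
    have hidx : ¬ 3 ∣ P.index := by
      intro hd
      obtain ⟨f⟩ := h.iso
      have hcE : 2 * Nat.card E = Fintype.card F * (Fintype.card F ^ 2 - 1) := by
        rw [Nat.card_congr f.toEquiv]
        exact Cfsg.Lib.PSLTwoDihedral.card_P (F := F) (Nat.odd_iff.1 h.odd)
      have e1 := P.card_mul_index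
      have e2 := (S : Subgroup Φ.K).card_mul_index
      have hS := S.not_dvd_index
      obtain ⟨d, hd'⟩ := h3
      obtain ⟨e, he⟩ := hd
      set k := Nat.card Φ.K
      set q := Fintype.card F
      set s := Nat.card (S : Subgroup Φ.K) with hs
      set j := (S : Subgroup Φ.K).index
      rw [hcardP, he] at e1
      rw [← e1] at hcE
      have hs0 : 0 < s := Nat.card_pos
      have h3q : ¬ 3 ∣ q := by rcases hk with hk | hk <;> omega
      rcases hk with hk | hk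
      · have hq2 : q ^ 2 - 1 = 4 * k * (4 * k + 2) := by
          rw [hk, show (4 * k + 1) ^ 2 = 4 * k * (4 * k + 2) + 1 by ring, Nat.add_sub_cancel]
        rw [hq2, ← e2] at hcE
        have he2 : 3 * e = q * j * (2 * (4 * k + 2)) := by
          refine Nat.eq_of_mul_eq_mul_left (show 0 < 2 * s by omega) ?_
          rw [← e2]
          linarith
        have h3r : 3 ∣ q * j * (2 * (4 * k + 2)) := he2 ▸ dvd_mul_right 3 e
        rcases (Nat.Prime.dvd_mul Nat.prime_three).1 h3r with h' | h'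
        · rcases (Nat.Prime.dvd_mul Nat.prime_three).1 h' with h'' | h''
          exacts [h3q h'', hS h'']
        · omega
      · have hq2 : q ^ 2 - 1 = 4 * k * (q - 1) := by
          obtain ⟨q', hq'⟩ : ∃ q', q = q' + 1 := ⟨q - 1, by omega⟩
          rw [hq', Nat.add_sub_cancel, show (q' + 1) ^ 2 = (q' + 2) * q' + 1 by ring, Nat.add_sub_cancel,
            show q' + 2 = 4 * k by omega]
        rw [hq2, ← e2] at hcE
        have he2 : 3 * e = q * j * (2 * (q - 1)) := by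
          refine Nat.eq_of_mul_eq_mul_left (show 0 < 2 * s by omega) ?_
          linarith
        have h3r : 3 ∣ q * j * (2 * (q - 1)) := he2 ▸ dvd_mul_right 3 e
        rcases (Nat.Prime.dvd_mul Nat.prime_three).1 h3r with h' | h'
        · rcases (Nat.Prime.dvd_mul Nat.prime_three).1 h' with h'' | h''
          exacts [h3q h'', hS h'']
        · omega
    obtain ⟨Q, hQ⟩ := (IsPGroup.of_card (G := zpowers (⟨m₀, hm₀E⟩ : E)) (n := 1)
      (by rw [Nat.card_zpowers, orderOf_mk, hm₀o, pow_one])).exists_le_sylow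
    obtain ⟨e, he⟩ := MulAction.exists_smul_eq E Q (hP3.toSylow hidx)
    have hmem : e * ⟨m₀, hm₀E⟩ * e⁻¹ ∈ P := by
      have : e * ⟨m₀, hm₀E⟩ * e⁻¹ ∈ ((hP3.toSylow hidx : Sylow 3 E) : Subgroup E) := by
        rw [← he, Sylow.coe_subgroup_smul, Subgroup.mem_pointwise_smul_iff_inv_smul_mem]
        simpa [mul_assoc] using hQ (mem_zpowers _)
      exact this
    refine ⟨(e : G) * m₀ * (e : G)⁻¹, map_subtype_le _ (mem_subgroupOf.1 hmem),
      ((MulAut.conj (e : G)).orderOf_eq m₀).trans hm₀o, g₀ * (e : G)⁻¹, ?_⟩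
    rw [hm₀]; group
  have hk₃1 : k₃ ≠ 1 := fun e => by rw [e, orderOf_one] at hk₃o; omega
  set z' := h₀⁻¹ * Φ.z * h₀ with hz'
  have hz'2 : z' * z' = 1 := by
    rw [hz', show h₀⁻¹ * Φ.z * h₀ * (h₀⁻¹ * Φ.z * h₀) = h₀⁻¹ * (Φ.z * Φ.z) * h₀ by group, Φ.zz]; group
  have hconj : ∀ {a b : G}, Commute a b → Commute (h₀⁻¹ * a * h₀) (h₀⁻¹ * b * h₀) := fun {a b} hab => by
    have := hab.map (MulAut.conj h₀⁻¹).toMonoidHom
    simpa [mul_assoc] using this
  have hz'k : Commute z' k₃ := hh₀ ▸ hconj Φ.mz.symm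
  have hu_k : ∀ {y : G}, y ∈ Φ.K → Commute (h₀⁻¹ * y * h₀) k₃ := fun {y} hy => hh₀ ▸ hconj (hcen y hy).symm
  have hu_inv : ∀ {y : G}, y ∈ Φ.K → z' * (h₀⁻¹ * y * h₀) * z'⁻¹ = (h₀⁻¹ * y * h₀)⁻¹ := fun {y} hy => by
    rw [hz', show h₀⁻¹ * Φ.z * h₀ * (h₀⁻¹ * y * h₀) * (h₀⁻¹ * Φ.z * h₀)⁻¹ = h₀⁻¹ * (Φ.z * y * Φ.z⁻¹) * h₀ by group,
      Φ.inv y hy]
    group
  have hu_odd : ∀ {y : G}, y ∈ Φ.K → Odd (orderOf (h₀⁻¹ * y * h₀)) := fun {y} hy => by
    rw [show h₀⁻¹ * y * h₀ = h₀⁻¹ * y * h₀⁻¹⁻¹ by rw [inv_inv],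
      show orderOf (h₀⁻¹ * y * h₀⁻¹⁻¹) = orderOf y from (MulAut.conj h₀⁻¹).orderOf_eq y]
    exact Φ.K_odd hy
  haveI := Φ.cyclic_K
  obtain ⟨⟨y₀, hy₀⟩, hgen⟩ := IsCyclic.exists_generator (α := Φ.K)
  have hy₀k : orderOf y₀ = Nat.card Φ.K := by
    rw [← orderOf_eq_card_of_forall_mem_zpowers hgen, orderOf_mk]
  set C := centralizer ({k₃} : Set G) with hC
  rcases Φ.cent_cases hk₃K hk₃1 with hN | ⟨-, π, hsur, hker⟩
  · -- four-group normal in the centralizer
    have hz'V : z' ∈ Φ.V := Φ.mem_V_of_norm hk₃K hk₃1 (hN z' hz'k) hz'k hz'2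
    set u := h₀⁻¹ * y₀ * h₀ with hu
    have hu1 := hN u (hu_k hy₀) z' hz'V
    have e : u * z' * u⁻¹ * z'⁻¹ = u * u := by
      rw [show u * z' * u⁻¹ * z'⁻¹ = u * (z' * u * z'⁻¹)⁻¹ by group, hu_inv hy₀, inv_inv]
    have hmem : u * u ∈ Φ.V := e ▸ mul_mem hu1 (inv_mem hz'V)
    have hu11 : u = 1 := by
      refine eq_one_of_odd_sq (hu_odd hy₀) (eq_one_of_odd_sq ?_ (Φ.V_sq hmem))
      rw [← pow_two]; exact (hu_odd hy₀).of_dvd_nat (orderOf_pow_dvd 2)
    have hy1 : y₀ = 1 := by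
      rw [hu] at hu11
      rw [show y₀ = h₀ * (h₀⁻¹ * y₀ * h₀) * h₀⁻¹ by group, hu11]; group
    rw [hy1, orderOf_one] at hy₀k
    have := Φ.three_le
    omega
  · -- quotient `A₅`
    have hcomm5 := Φ.comm_of_five hk₃K hsur hker
    let f : Φ.K →* alternatingGroup (Fin 5) :=
      π.comp (((MulAut.conj h₀⁻¹).toMonoidHom.comp Φ.K.subtype).codRestrict (centralizer ({k₃} : Set G))
        fun y => mem_centralizer_singleton_iff.2 (by simpa [mul_assoc] using (hu_k y.2).eq))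
    have hf : Function.Injective f := by
      rw [injective_iff_map_eq_one]
      intro y hy
      have hK : h₀⁻¹ * (y : G) * h₀ ∈ Φ.K := by
        have := (hker _).1 hy
        simpa [mul_assoc] using this
      have hc := hcomm5 z' hz'k _ hK
      have hi := hu_inv y.2
      rw [hc.eq, mul_inv_cancel_right] at hi
      have h1 := eq_one_of_odd_sq (hu_odd y.2) (by nth_rw 2 [hi]; exact mul_inv_cancel _)
      exact Subtype.ext (by rw [show (y : G) = h₀ * (h₀⁻¹ * y * h₀) * h₀⁻¹ by group, h1]; simp)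
    have hk35 : Nat.card Φ.K = 3 := by
      have ho : orderOf (f ⟨y₀, hy₀⟩) = Nat.card Φ.K := by rw [orderOf_injective f hf, orderOf_mk, hy₀k]
      have hodd := Φ.odd_K
      have h3k := Φ.three_le
      have hd : Nat.card Φ.K ∣ 2 ∨ Nat.card Φ.K ∣ 3 ∨ Nat.card Φ.K ∣ 5 := by
        rw [← ho]
        rcases alt_five_pows (f ⟨y₀, hy₀⟩) with e | e | e
        · exact Or.inl (orderOf_dvd_of_pow_eq_one (by rw [pow_two]; exact e))
        · exact Or.inr (Or.inl (orderOf_dvd_of_pow_eq_one (by rw [pow_succ, pow_two]; exact e)))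
        · exact Or.inr (Or.inr (orderOf_dvd_of_pow_eq_one (by rw [pow_succ, pow_succ, pow_succ, pow_two]; exact e)))
      rcases hd with hd | hd | hd
      · have := Nat.le_of_dvd two_pos hd; omega
      · have := Nat.le_of_dvd three_pos hd; omega
      · obtain ⟨d, hd'⟩ := h3
        rw [hd'] at hd
        exact absurd (dvd_trans (dvd_mul_right 3 d) hd) (by norm_num)
    -- the elements of `K`
    have hK3 : ∀ y ∈ Φ.K, y = 1 ∨ y = k₃ ∨ y = k₃ * k₃ := by
      intro y hy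
      have hz : zpowers k₃ = Φ.K := eq_of_le_of_card_ge (zpowers_le.2 hk₃K) (by rw [Nat.card_zpowers, hk₃o, hk35])
      rw [← hz] at hy
      obtain ⟨i, -, rfl⟩ : ∃ i ∈ Finset.range 3, k₃ ^ i = y := by
        have := (isOfFinOrder_of_finite k₃).mem_powers_iff_mem_range_orderOf.1
          ((isOfFinOrder_of_finite k₃).mem_powers_iff_mem_zpowers.2 hy)
        rw [hk₃o, Finset.mem_image] at this
        exact this
      have : i = i := rfl
      rcases Nat.lt_or_ge i 1 with hi | hi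
      · left; rw [show i = 0 by omega, pow_zero]
      rcases Nat.lt_or_ge i 2 with hi' | hi'
      · right; left; rw [show i = 1 by omega, pow_one]
      rcases Nat.lt_or_ge i 3 with hi'' | hi''
      · right; right; rw [show i = 2 by omega, pow_two]
      · have e : k₃ ^ i = k₃ ^ (i % 3) := by rw [← hk₃o, pow_mod_orderOf]
        rcases (show i % 3 = 0 ∨ i % 3 = 1 ∨ i % 3 = 2 by omega) with r | r | r <;> rw [e, r]
        · exact Or.inl (pow_zero _)
        · exact Or.inr (Or.inl (pow_one _))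
        · exact Or.inr (Or.inr (pow_two _))
    set S := Φ.S9 hcen with hS
    have hmS : Φ.m ∈ S := ⟨1, one_mem _, 1, by simp⟩
    have hKS : ∀ y ∈ Φ.K, y ∈ S := fun y hy => ⟨y, hy, 0, by simp⟩
    have hSC : ∀ x ∈ S, Commute x k₃ := by
      rintro x ⟨y, hy, i, rfl⟩
      exact (Φ.K_comm hy hk₃K).mul_left ((hcen k₃ hk₃K).pow_left i)
    have hSm : ∀ x ∈ S, Commute x Φ.m := by
      rintro x ⟨y, hy, i, rfl⟩
      exact (hcen y hy).symm.mul_left (Commute.pow_self Φ.m i)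
    have hSc : ∀ x, Commute x k₃ → Commute x Φ.m → x ∈ S := fun x h1 h2 => Φ.cent_m hcen hk₃K hk₃1 h1 h2
    -- the Sylow 3-subgroup of the centralizer
    have hcardS : Nat.card S = 9 := by
      have hkey : ∀ (y : G), y ∈ Φ.K → ∀ i : ℕ, y * Φ.m ^ i = 1 → i % 3 = 0 ∧ y = 1 := by
        intro y hy i e
        have hi : Φ.m ^ i ∈ Φ.T0 := Φ.K_le_T0 (by rw [eq_inv_of_mul_eq_one_right e]; exact inv_mem hy)
        have := Φ.m_not_T0 hi
        refine ⟨this, ?_⟩
        rwa [Φ.m_pow_mod, this, pow_zero, mul_one] at e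
      rw [show (9 : ℕ) = Nat.card (Φ.K × Fin 3) by rw [Nat.card_prod, hk35, Nat.card_eq_fintype_card, Fintype.card_fin]]
      refine (Nat.card_congr (Equiv.ofBijective
        (fun p : Φ.K × Fin 3 => (⟨(p.1 : G) * Φ.m ^ (p.2 : ℕ), p.1, p.1.2, p.2, rfl⟩ : S)) ⟨?_, ?_⟩)).symm
      · rintro ⟨⟨y, hy⟩, i⟩ ⟨⟨y', hy'⟩, j⟩ e
        have e : y * Φ.m ^ (i : ℕ) = y' * Φ.m ^ (j : ℕ) := congrArg Subtype.val e
        have e' : (y'⁻¹ * y) * Φ.m ^ ((i : ℕ) + (3 - j)) = 1 := by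
          rw [pow_add, show y'⁻¹ * y * (Φ.m ^ (i : ℕ) * Φ.m ^ (3 - (j : ℕ))) =
            y'⁻¹ * (y * Φ.m ^ (i : ℕ)) * Φ.m ^ (3 - (j : ℕ)) by group, e,
            show y'⁻¹ * (y' * Φ.m ^ (j : ℕ)) * Φ.m ^ (3 - (j : ℕ)) = Φ.m ^ (j : ℕ) * Φ.m ^ (3 - (j : ℕ)) by group,
            ← pow_add, show (j : ℕ) + (3 - j) = orderOf Φ.m by rw [Φ.m_ord]; omega, pow_orderOf_eq_one]
        obtain ⟨h1, h2⟩ := hkey _ (mul_mem (inv_mem hy') hy) _ e'
        rw [inv_mul_eq_one] at h2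
        refine Prod.ext (Subtype.ext h2.symm) (Fin.ext ?_)
        show (i : ℕ) = j
        omega
      · rintro ⟨x, y, hy, i, rfl⟩
        exact ⟨(⟨y, hy⟩, ⟨i % 3, Nat.mod_lt _ (by norm_num)⟩), Subtype.ext (by simp only; rw [← Φ.m_pow_mod])⟩
    have hcardC : Nat.card C = 180 := by
      have h1 := π.ker.card_mul_index
      rw [index_ker, MonoidHom.range_eq_top.2 hsur, card_top, Cfsg.Lib.HallJankoType.sixty] at h1
      have h2 : Nat.card π.ker = Nat.card Φ.K := Nat.card_congr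
        { toFun := fun x => ⟨(x : G), (hker _).1 x.2⟩
          invFun := fun y => ⟨⟨y, mem_centralizer_singleton_iff.2 (Φ.K_comm y.2 hk₃K).eq⟩, (hker _).2 y.2⟩
          left_inv := fun _ => rfl
          right_inv := fun _ => rfl }
      rw [← h1, h2, hk35]
    obtain ⟨n, hn, hnS⟩ : ∃ n : G, n * k₃ * n⁻¹ = Φ.m ∧ ∀ x ∈ S, n * x * n⁻¹ ∈ S := by
      set Cm := centralizer ({Φ.m} : Set G) with hCm
      have hmap : C.map (MulAut.conj h₀).toMonoidHom = Cm := by
        ext x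
        rw [mem_map_equiv, hC, hCm, mem_centralizer_singleton_iff, mem_centralizer_singleton_iff,
          MulAut.conj_symm_apply, ← hh₀]
        constructor <;> intro e
        · calc x * Φ.m = h₀ * ((h₀⁻¹ * x * h₀) * (h₀⁻¹ * Φ.m * h₀)) * h₀⁻¹ := by group
            _ = h₀ * ((h₀⁻¹ * Φ.m * h₀) * (h₀⁻¹ * x * h₀)) * h₀⁻¹ := by rw [e]
            _ = Φ.m * x := by group
        · calc h₀⁻¹ * x * h₀ * (h₀⁻¹ * Φ.m * h₀) = h₀⁻¹ * (x * Φ.m) * h₀ := by group
            _ = _ := by rw [e]; group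
      have hS1 : S ≤ Cm := fun x hx => mem_centralizer_singleton_iff.2 (hSm x hx).eq
      have hS2 : S.map (MulAut.conj h₀).toMonoidHom ≤ Cm :=
        hmap ▸ map_mono (fun x hx => mem_centralizer_singleton_iff.2 (hSC x hx).eq)
      have hcCm : Nat.card Cm = 180 := by rw [← hmap, card_map_of_injective (MulAut.conj h₀).injective, hcardC]
      have hsyl : ∀ (R : Subgroup G), R ≤ Cm → Nat.card R = 9 → ∃ P : Sylow 3 Cm, (P : Subgroup Cm) = R.subgroupOf Cm := by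
        intro R hR hR9
        have hc : Nat.card (R.subgroupOf Cm) = 9 := by rw [Nat.card_congr (subgroupOfEquivOfLe hR).toEquiv, hR9]
        have hp : IsPGroup 3 (R.subgroupOf Cm) := IsPGroup.of_card (n := 2) (by rw [hc]; norm_num)
        refine ⟨hp.toSylow ?_, rfl⟩
        have := (R.subgroupOf Cm).card_mul_index
        rw [hc, hcCm] at this
        omega
      obtain ⟨P1, hP1⟩ := hsyl S hS1 hcardS
      obtain ⟨P2, hP2⟩ := hsyl _ hS2 (by rw [card_map_of_injective (MulAut.conj h₀).injective, hcardS])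
      obtain ⟨c, hc⟩ := MulAction.exists_smul_eq Cm P2 P1
      refine ⟨(c : G) * h₀, ?_, fun x hx => ?_⟩
      · rw [← hh₀, show (c : G) * h₀ * (h₀⁻¹ * Φ.m * h₀) * ((c : G) * h₀)⁻¹ = (c : G) * Φ.m * (c : G)⁻¹ by group,
          mem_centralizer_singleton_iff.1 c.2, mul_inv_cancel_right]
      · have hx2 : h₀ * x * h₀⁻¹ ∈ Cm := hS2 ⟨x, hx, rfl⟩
        have hin : c * ⟨h₀ * x * h₀⁻¹, hx2⟩ * c⁻¹ ∈ (P1 : Subgroup Cm) := by
          rw [← hc, Sylow.coe_subgroup_smul, Subgroup.mem_pointwise_smul_iff_inv_smul_mem]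
          simp only [MulDistribMulAction.toMonoidEnd_apply, MulAut.smul_def, MulAut.conj_inv_apply]
          rw [show c⁻¹ * (c * ⟨h₀ * x * h₀⁻¹, hx2⟩ * c⁻¹) * c = ⟨h₀ * x * h₀⁻¹, hx2⟩ by group, hP2]
          exact mem_subgroupOf.2 ⟨x, hx, rfl⟩
        rw [hP1] at hin
        have hin' := mem_subgroupOf.1 hin
        push_cast at hin'
        rwa [show (c : G) * h₀ * x * ((c : G) * h₀)⁻¹ = (c : G) * (h₀ * x * h₀⁻¹) * (c : G)⁻¹ by group]
    have hzk : Commute Φ.z Φ.m := Φ.mz.symm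
    have hzS : ∀ x ∈ S, Φ.z * x * Φ.z⁻¹ ∈ S := by
      rintro x ⟨y, hy, i, rfl⟩
      refine ⟨y⁻¹, inv_mem hy, i, ?_⟩
      rw [show Φ.z * (y * Φ.m ^ i) * Φ.z⁻¹ = (Φ.z * y * Φ.z⁻¹) * (Φ.z * Φ.m ^ i * Φ.z⁻¹) by group, Φ.inv y hy,
        (hzk.pow_right i).eq, mul_inv_cancel_right]
    -- the normaliser of `S`
    set N := normalizer (S : Set G) with hN
    have hmemN : ∀ {x : G}, (∀ s ∈ S, x * s * x⁻¹ ∈ S) → x ∈ N := fun hx =>
      Cfsg.Lib.ZStarApps.mem_normalizer_of_maps hx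
    have hNS : ∀ {x : G}, x ∈ N → ∀ s ∈ S, x * s * x⁻¹ ∈ S := fun hx s hs => (mem_normalizer_iff.1 hx s).1 hs
    have hstab : ∀ x ∈ N, Commute x k₃ → x * Φ.m * x⁻¹ = Φ.m ∨ x * Φ.m * x⁻¹ = Φ.m * Φ.m := by
      intro x hx hxk
      obtain ⟨a, ha, i, hai⟩ := hNS hx Φ.m hmS
      have hx'k : Commute (Φ.z * x * Φ.z⁻¹) k₃ := by
        have := hxk.inv_right.map (MulAut.conj Φ.z).toMonoidHom
        rwa [show (MulAut.conj Φ.z).toMonoidHom k₃⁻¹ = k₃ from by
          show Φ.z * k₃⁻¹ * Φ.z⁻¹ = k₃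
          rw [Φ.inv _ (inv_mem hk₃K), inv_inv]] at this
      set x' := Φ.z * x * Φ.z⁻¹ with hx'
      have hx'm : x' * Φ.m * x'⁻¹ = a⁻¹ * Φ.m ^ i := by
        rw [hx', show Φ.z * x * Φ.z⁻¹ * Φ.m * (Φ.z * x * Φ.z⁻¹)⁻¹ = Φ.z * (x * (Φ.z⁻¹ * Φ.m * Φ.z) * x⁻¹) * Φ.z⁻¹ by group,
          show Φ.z⁻¹ * Φ.m * Φ.z = Φ.m by rw [mul_assoc, ← hzk.eq, inv_mul_cancel_left], hai,
          show Φ.z * (a * Φ.m ^ i) * Φ.z⁻¹ = (Φ.z * a * Φ.z⁻¹) * (Φ.z * Φ.m ^ i * Φ.z⁻¹) by group, Φ.inv a ha,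
          (hzk.pow_right i).eq, mul_inv_cancel_right]
      set d := x'⁻¹ * x with hd
      have hdk : Commute d k₃ := hx'k.inv_left.mul_left hxk
      have hdm : d ∈ S := by
        refine hSc d hdk ?_
        set dC : C := ⟨d, mem_centralizer_singleton_iff.2 hdk.eq⟩
        set mC : C := ⟨Φ.m, mem_centralizer_singleton_iff.2 (hcen k₃ hk₃K).eq⟩
        have e : π dC * π mC = π mC * π dC := by
          set xC : C := ⟨x, mem_centralizer_singleton_iff.2 hxk.eq⟩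
          set xC' : C := ⟨x', mem_centralizer_singleton_iff.2 hx'k.eq⟩
          have e1 : π (xC * mC * xC⁻¹) = π (xC' * mC * xC'⁻¹) := by
            have hk : ((xC * mC * xC⁻¹ * (xC' * mC * xC'⁻¹)⁻¹ : C) : G) ∈ Φ.K := by
              push_cast
              show x * Φ.m * x⁻¹ * (x' * Φ.m * x'⁻¹)⁻¹ ∈ Φ.K
              rw [hai, hx'm, show a * Φ.m ^ i * (a⁻¹ * Φ.m ^ i)⁻¹ = a * a by group]
              exact mul_mem ha ha
            have := (hker _).2 hk
            rwa [map_mul, map_inv, mul_inv_eq_one] at this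
          have e2 : dC = xC'⁻¹ * xC := rfl
          rw [e2, map_mul, map_inv]
          simp only [map_mul, map_inv] at e1
          calc (π xC')⁻¹ * π xC * π mC = (π xC')⁻¹ * (π xC * π mC * (π xC)⁻¹) * π xC := by group
            _ = π mC * ((π xC')⁻¹ * π xC) := by rw [e1]; group
        have hm1 : π mC ≠ 1 := fun e' => Φ.m_not_K ((hker mC).1 e')
        have hm3 : π mC * π mC * π mC = 1 := by
          rw [← map_mul, ← map_mul, show mC * mC * mC = 1 from Subtype.ext Φ.m3, map_one]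
        obtain ⟨j, hj⟩ : ∃ j : ℕ, π dC = π (mC ^ j) := by
          rcases alt_five_three _ ⟨hm3, hm1⟩ _ e with r | r | r
          · exact ⟨0, by rw [r, pow_zero, map_one]⟩
          · exact ⟨1, by rw [r, pow_one]⟩
          · exact ⟨2, by rw [r, pow_two, map_mul]⟩
        have hK : ((dC * (mC ^ j)⁻¹ : C) : G) ∈ Φ.K := (hker _).1 (by rw [map_mul, map_inv, hj, mul_inv_cancel])
        push_cast at hK
        have h1 := (hcen _ hK).symm.mul_left (Commute.pow_self Φ.m j)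
        rwa [inv_mul_cancel_right] at h1
      have heq : x * Φ.m * x⁻¹ = x' * Φ.m * x'⁻¹ := by
        have hdm' := hSm d hdm
        rw [show x = x' * d by rw [hd]; group, show x' * d * Φ.m * (x' * d)⁻¹ = x' * (d * Φ.m * d⁻¹) * x'⁻¹ by group,
          hdm'.eq, mul_inv_cancel_right]
      rw [hai, hx'm] at heq
      have ha1 : a = 1 := by
        have e := mul_right_cancel heq
        exact eq_one_of_odd_sq (Φ.K_odd ha) (by nth_rw 2 [e]; exact mul_inv_cancel a)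
      rw [hai, ha1, one_mul, Φ.m_pow_mod]
      have hi3 : i % 3 < 3 := Nat.mod_lt _ (by norm_num)
      interval_cases hr : i % 3
      · exfalso
        rw [ha1, one_mul, Φ.m_pow_mod, hr, pow_zero, mul_inv_eq_one, mul_eq_left] at hai
        exact Φ.m_not_K (hai ▸ one_mem _)
      · exact Or.inl (pow_one _)
      · exact Or.inr (pow_two _)
    have hnN : n ∈ N := hmemN hnS
    have hzN : Φ.z ∈ N := hmemN hzS
    set e := n * Φ.m * n⁻¹ with he
    have he1 : e ≠ 1 := fun h' => by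
      rw [he, mul_inv_eq_one, mul_eq_left] at h'; exact Φ.m_not_K (h' ▸ one_mem _)
    have hcnz : Commute (n⁻¹ * Φ.z * n) k₃ := by
      rw [show k₃ = n⁻¹ * Φ.m * n by rw [← hn]; group]
      show n⁻¹ * Φ.z * n * (n⁻¹ * Φ.m * n) = n⁻¹ * Φ.m * n * (n⁻¹ * Φ.z * n)
      rw [show n⁻¹ * Φ.z * n * (n⁻¹ * Φ.m * n) = n⁻¹ * (Φ.z * Φ.m) * n by group, hzk.eq]
      group
    have hze : Φ.z * e * Φ.z⁻¹ = e ∨ Φ.z * e * Φ.z⁻¹ = e * e := by
      rcases hstab _ (mul_mem (mul_mem (inv_mem hnN) hzN) hnN) hcnz with r | r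
      · left
        rw [he, show Φ.z * (n * Φ.m * n⁻¹) * Φ.z⁻¹ = n * (n⁻¹ * Φ.z * n * Φ.m * (n⁻¹ * Φ.z * n)⁻¹) * n⁻¹ by group, r]
      · right
        rw [he, show Φ.z * (n * Φ.m * n⁻¹) * Φ.z⁻¹ = n * (n⁻¹ * Φ.z * n * Φ.m * (n⁻¹ * Φ.z * n)⁻¹) * n⁻¹ by group, r]
        group
    obtain ⟨a, ha, i, hai⟩ := hnS Φ.m hmS
    rw [← he] at hai
    have hzea : Φ.z * e * Φ.z⁻¹ = a⁻¹ * Φ.m ^ i := by
      rw [hai, show Φ.z * (a * Φ.m ^ i) * Φ.z⁻¹ = (Φ.z * a * Φ.z⁻¹) * (Φ.z * Φ.m ^ i * Φ.z⁻¹) by group, Φ.inv a ha,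
        (hzk.pow_right i).eq, mul_inv_cancel_right]
    have ha3 : a * a * a = 1 := by
      have := pow_card_eq_one' (G := Φ.K) (x := ⟨a, ha⟩)
      rw [hk35] at this
      have e3 := congrArg Subtype.val this
      push_cast at e3
      rwa [pow_succ, pow_two] at e3
    have heK : e ∈ Φ.K := by
      rcases hze with r | r
      · -- `e` would be a power of `m`
        exfalso
        rw [hzea, hai] at r
        have ha1 : a = 1 := eq_one_of_odd_sq (Φ.K_odd ha) (by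
          nth_rw 1 [← mul_right_cancel r]; exact inv_mul_cancel a)
        rw [ha1, one_mul] at hai
        have h' : n * (k₃ ^ i) * n⁻¹ = e := by rw [hai, ← conj_pow, hn]
        rw [he] at h'
        have e2 : k₃ ^ i = Φ.m := mul_left_cancel (mul_right_cancel h')
        exact Φ.m_not_K (e2 ▸ pow_mem hk₃K i)
      · rw [hzea, hai, show a * Φ.m ^ i * (a * Φ.m ^ i) = a * a * (Φ.m ^ i * Φ.m ^ i) by
          rw [show a * Φ.m ^ i * (a * Φ.m ^ i) = a * (Φ.m ^ i * a) * Φ.m ^ i by group, ((hcen a ha).pow_left i).eq]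
          group, show a * a = a⁻¹ from eq_inv_of_mul_eq_one_left ha3] at r
        have h2 := mul_left_cancel r
        rw [← pow_add] at h2
        have h3' : Φ.m ^ i = 1 := by rw [pow_add] at h2; exact mul_eq_right.1 h2.symm
        rw [hai, h3', mul_one]; exact ha
    -- the monomial subgroup
    set L : G → Prop := fun s => s ∈ Φ.K ∨ s ∈ zpowers Φ.m with hL
    let W₀ : Set G := {x | x ∈ N ∧ ∀ s, L s → L (x * s * x⁻¹)}
    set W : Subgroup G := Subgroup.closure W₀ with hW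
    have hWset : ∀ x, x ∈ W → x ∈ W₀ := by
      intro x hx
      induction hx using Subgroup.closure_induction with
      | mem x hx => exact hx
      | one => exact ⟨one_mem _, fun s hs => by simpa using hs⟩
      | mul x y _ _ hx hy => exact ⟨mul_mem hx.1 hy.1, fun s hs => by
          rw [show x * y * s * (x * y)⁻¹ = x * (y * s * y⁻¹) * x⁻¹ by group]; exact hx.2 _ (hy.2 s hs)⟩
      | inv x _ hx =>
        have hp : ∀ k : ℕ, x ^ k ∈ W₀ := by
          intro k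
          induction k with
          | zero => exact ⟨by simp, fun s hs => by simpa using hs⟩
          | succ k ih => exact ⟨pow_succ' x k ▸ mul_mem hx.1 ih.1, fun s hs => by
              rw [pow_succ', show x * x ^ k * s * (x * x ^ k)⁻¹ = x * (x ^ k * s * (x ^ k)⁻¹) * x⁻¹ by group]
              exact hx.2 _ (ih.2 s hs)⟩
        rw [show x⁻¹ = x ^ (orderOf x - 1) by
          rw [inv_eq_iff_mul_eq_one, ← pow_succ', Nat.sub_add_cancel (orderOf_pos x), pow_orderOf_eq_one]]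
        exact hp _
    have hm_cases : ∀ s ∈ zpowers Φ.m, ∃ j : ℕ, s = Φ.m ^ j := fun s hs => by
      obtain ⟨j, hj⟩ := (isOfFinOrder_of_finite Φ.m).mem_powers_iff_mem_zpowers.2 hs
      exact ⟨j, hj.symm⟩
    have hKm : ∀ s, s ∈ Φ.K → s ∈ zpowers Φ.m → s = 1 := fun s h1 h2 => by
      obtain ⟨j, rfl⟩ := hm_cases s h2
      rw [Φ.m_pow_mod, Φ.m_not_T0 (Φ.K_le_T0 h1), pow_zero]
    have hzW : Φ.z ∈ W := Subgroup.subset_closure ⟨hzN, fun s hs => by
      rcases hs with hs | hs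
      · exact Or.inl (Φ.inv s hs ▸ inv_mem hs)
      · obtain ⟨j, rfl⟩ := hm_cases s hs
        right
        rw [(hzk.pow_right j).eq, mul_inv_cancel_right]
        exact hs⟩
    have hnW : n ∈ W := Subgroup.subset_closure ⟨hnN, fun s hs => by
      rcases hs with hs | hs
      · right
        rcases hK3 s hs with r | r | r <;> rw [r]
        · simp
        · rw [hn]; exact mem_zpowers _
        · rw [show n * (k₃ * k₃) * n⁻¹ = (n * k₃ * n⁻¹) * (n * k₃ * n⁻¹) by group, hn]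
          exact mul_mem (mem_zpowers _) (mem_zpowers _)
      · obtain ⟨j, rfl⟩ := hm_cases s hs
        left
        rw [← conj_pow]
        exact pow_mem heK j⟩
    have hSW : S ≤ W := fun x hx => Subgroup.subset_closure ⟨le_normalizer hx, fun s hs => by
      have hsS : s ∈ S := hs.elim (hKS s) fun h' => (zpowers_le.2 hmS) h'
      have hc : Commute x s := by
        obtain ⟨y, hy, j, rfl⟩ := hx
        obtain ⟨y', hy', l, rfl⟩ := hsS
        exact ((Φ.K_comm hy hy').mul_right ((hcen y hy).pow_left l).symm).mul_left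
          (((hcen y' hy').pow_left j).mul_right ((Commute.refl Φ.m).pow_pow j l))
      rw [hc.eq, mul_inv_cancel_right]; exact hs⟩
    have hfour : ∀ x ∈ W, x ^ 4 ∈ S := by
      intro x hx
      obtain ⟨hxN, hxL⟩ := hWset x hx
      have hx4 : x ^ 4 = x * x * (x * x) := by simp only [pow_succ, pow_zero, one_mul, mul_assoc]
      -- a line mapped to itself by `x * x` is fixed pointwise by `x ^ 4`
      have hsq : ∀ s, (∀ r, (r = s ∨ r = s * s) → (x * x * r * (x * x)⁻¹ = s ∨ x * x * r * (x * x)⁻¹ = s * s)) →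
          s * s * s = 1 → Commute (x ^ 4) s := by
        intro s hs hs3
        refine mul_inv_eq_iff_eq_mul.1 ?_
        rw [hx4, show x * x * (x * x) * s * (x * x * (x * x))⁻¹ = x * x * (x * x * s * (x * x)⁻¹) * (x * x)⁻¹ by group]
        rcases hs s (Or.inl rfl) with r | r
        · rw [r, r]
        · rw [r, show x * x * (s * s) * (x * x)⁻¹ = (x * x * s * (x * x)⁻¹) * (x * x * s * (x * x)⁻¹) by group, r,
            show s * s * (s * s) = s * s * s * s by group, hs3, one_mul]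
      have hline : ∀ (s : G), s ≠ 1 → L s → L (x * x * s * (x * x)⁻¹) ∧ x * x * s * (x * x)⁻¹ ≠ 1 := by
        intro s hs1 hs
        refine ⟨?_, fun h' => hs1 ?_⟩
        · rw [show x * x * s * (x * x)⁻¹ = x * (x * s * x⁻¹) * x⁻¹ by group]; exact hxL _ (hxL s hs)
        · rwa [mul_inv_eq_one, mul_eq_left] at h'
      -- `x * x` preserves each line
      have hkeepK : x * x * k₃ * (x * x)⁻¹ ∈ Φ.K := by
        obtain ⟨hl, hne⟩ := hline k₃ hk₃1 (Or.inl hk₃K)
        refine hl.resolve_right fun hm' => ?_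
        rw [show x * x * k₃ * (x * x)⁻¹ = x * (x * k₃ * x⁻¹) * x⁻¹ by group] at hm' hne
        have hne' : x * k₃ * x⁻¹ ≠ 1 := fun h' => hk₃1 (by rwa [mul_inv_eq_one, mul_eq_left] at h')
        rcases hxL k₃ (Or.inl hk₃K) with r | r
        · rcases hK3 _ r with r' | r' | r'
          · exact hne' r'
          · rw [r', r'] at hm'
            exact hk₃1 (hKm _ hk₃K hm')
          · rw [r', show x * (k₃ * k₃) * x⁻¹ = (x * k₃ * x⁻¹) * (x * k₃ * x⁻¹) by group, r'] at hm' hne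
            exact hne (hKm _ (mul_mem (mul_mem hk₃K hk₃K) (mul_mem hk₃K hk₃K)) hm')
        · -- then `x` sends `⟨m⟩` to `K`
          have hxm : x * Φ.m * x⁻¹ ∈ Φ.K := by
            refine (hxL Φ.m (Or.inr (mem_zpowers _))).resolve_right fun hm2 => ?_
            obtain ⟨j, hj⟩ := hm_cases _ r
            obtain ⟨l, hl'⟩ := hm_cases _ hm2
            have hl3 : l % 3 ≠ 0 := fun h0 => by
              rw [Φ.m_pow_mod, h0, pow_zero, mul_inv_eq_one, mul_eq_left] at hl'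
              exact Φ.m_not_K (hl' ▸ one_mem _)
            have e2 : k₃ = Φ.m ^ (l * j) := by
              apply (MulAut.conj x).injective
              show x * k₃ * x⁻¹ = x * Φ.m ^ (l * j) * x⁻¹
              rw [← conj_pow, hl', hj, ← pow_mul, Φ.m_pow_mod, Φ.m_pow_mod (l * (l * j)), Nat.mul_mod l (l * j),
                Nat.mul_mod l j]
              congr 1
              rcases (show l % 3 = 1 ∨ l % 3 = 2 by omega) with e | e <;> rw [e] <;> omega
            exact hk₃1 (hKm _ hk₃K (e2 ▸ pow_mem (mem_zpowers Φ.m) _))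
          obtain ⟨j, hj⟩ := hm_cases _ r
          rw [hj, ← conj_pow] at hm'
          have := hKm _ (pow_mem hxm j) hm'
          rw [hj, ← conj_pow] at hne
          exact hne this
      have hkeepm : x * x * Φ.m * (x * x)⁻¹ ∈ zpowers Φ.m := by
        obtain ⟨hl, hne⟩ := hline Φ.m (fun h' => Φ.m_not_K (h' ▸ one_mem _)) (Or.inr (mem_zpowers _))
        refine hl.resolve_left fun hk' => ?_
        have hne' : x * x * k₃ * (x * x)⁻¹ ≠ 1 := fun h' => hk₃1 (by rwa [mul_inv_eq_one, mul_eq_left] at h')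
        obtain ⟨l, hl'⟩ : ∃ l : ℕ, x * x * Φ.m * (x * x)⁻¹ = (x * x * k₃ * (x * x)⁻¹) ^ l := by
          rcases hK3 _ hk' with r | r | r <;> rcases hK3 _ hkeepK with r' | r' | r'
          all_goals first
            | exact absurd r hne
            | exact absurd r' hne'
            | (refine ⟨1, ?_⟩; rw [r, r', pow_one]; done)
            | (refine ⟨2, ?_⟩; rw [r, r', pow_two]; done)
            | (refine ⟨2, ?_⟩
               rw [r, r', pow_two, show k₃ * k₃ * (k₃ * k₃) = k₃ ^ 3 * k₃ by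
                  simp only [pow_succ, pow_zero, one_mul, mul_assoc],
                  ← hk₃o, pow_orderOf_eq_one, one_mul])
        rw [conj_pow] at hl'
        exact Φ.m_not_K ((MulAut.conj (x * x)).injective hl' ▸ pow_mem hk₃K l)
      refine hSc _ (hsq k₃ (fun r hr => ?_) ?_) (hsq Φ.m (fun r hr => ?_) Φ.m3)
      · have hrK : x * x * r * (x * x)⁻¹ ∈ Φ.K := by
          rcases hr with rfl | rfl
          · exact hkeepK
          · rw [show x * x * (k₃ * k₃) * (x * x)⁻¹ = (x * x * k₃ * (x * x)⁻¹) * (x * x * k₃ * (x * x)⁻¹) by group]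
            exact mul_mem hkeepK hkeepK
        refine ((hK3 _ hrK).resolve_left fun h' => ?_)
        rw [mul_inv_eq_one, mul_eq_left] at h'
        rcases hr with rfl | rfl
        · exact hk₃1 h'
        · exact hk₃1 (eq_one_of_odd_sq (Φ.K_odd hk₃K) h')
      · rw [← pow_two, ← pow_succ, show 2 + 1 = orderOf k₃ by omega, pow_orderOf_eq_one]
      · have hr' : x * x * r * (x * x)⁻¹ ∈ zpowers Φ.m := by
          rcases hr with rfl | rfl
          · exact hkeepm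
          · rw [show x * x * (Φ.m * Φ.m) * (x * x)⁻¹ = (x * x * Φ.m * (x * x)⁻¹) * (x * x * Φ.m * (x * x)⁻¹) by group]
            exact mul_mem hkeepm hkeepm
        obtain ⟨j, hj⟩ := hm_cases _ hr'
        rw [hj, Φ.m_pow_mod]
        have hj3 : j % 3 ≠ 0 := fun h0 => by
          rw [Φ.m_pow_mod, h0, pow_zero, mul_inv_eq_one, mul_eq_left] at hj
          rcases hr with rfl | rfl
          · exact Φ.m_not_K (hj ▸ one_mem _)
          · have : Φ.m = 1 := eq_one_of_odd_sq (by rw [Φ.m_ord]; decide) hj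
            exact Φ.m_not_K (this ▸ one_mem _)
        rcases (show j % 3 = 1 ∨ j % 3 = 2 by omega) with r' | r' <;> rw [r']
        · exact Or.inl (pow_one _)
        · exact Or.inr (pow_two _)
    set S' := S.subgroupOf W with hS'
    haveI hS'n : S'.Normal := ⟨fun s hs g => mem_subgroupOf.2 (by
      push_cast; exact hNS (hWset g g.2).1 _ (mem_subgroupOf.1 hs))⟩
    have hQ2 : IsPGroup 2 (W ⧸ S') := fun q => by
      obtain ⟨g, rfl⟩ := QuotientGroup.mk'_surjective S' q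
      refine ⟨2, ?_⟩
      rw [← map_pow]
      exact (QuotientGroup.eq_one_iff _).2 (mem_subgroupOf.2 (by push_cast; exact hfour g g.2))
    obtain ⟨P⟩ : Nonempty (Sylow 2 W) := inferInstance
    set Q : Sylow 2 (W ⧸ S') := P.mapSurjective (QuotientGroup.mk'_surjective S') with hQ
    have hQtop : (Q : Subgroup (W ⧸ S')) = ⊤ :=
      (Q.is_maximal' (Q := ⊤) (hQ2.to_subgroup ⊤) le_top).symm
    obtain ⟨P', hP'⟩ := (P.isPGroup'.map W.subtype).exists_le_sylow
    haveI := Φ.ab P'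
    have hcommQ : ∀ p q : W ⧸ S', p * q = q * p := by
      intro p q
      obtain ⟨p', hp', rfl⟩ : p ∈ (P : Subgroup W).map (QuotientGroup.mk' S') := by
        show p ∈ (Q : Subgroup (W ⧸ S'))
        rw [hQtop]; exact mem_top p
      obtain ⟨q', hq', rfl⟩ : q ∈ (P : Subgroup W).map (QuotientGroup.mk' S') := by
        show q ∈ (Q : Subgroup (W ⧸ S'))
        rw [hQtop]; exact mem_top q
      rw [← map_mul, ← map_mul]
      refine congrArg _ (Subtype.ext ?_)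
      have := congrArg Subtype.val (mul_comm' (⟨(p' : G), hP' ⟨p', hp', rfl⟩⟩ : (P' : Subgroup G))
        ⟨(q' : G), hP' ⟨q', hq', rfl⟩⟩)
      push_cast at this ⊢
      exact this
    set zW : W := ⟨Φ.z, hzW⟩
    set nW : W := ⟨n, hnW⟩
    have hcS : ((nW * zW * nW⁻¹ * zW⁻¹ : W) : G) ∈ S := by
      refine mem_subgroupOf.1 ((QuotientGroup.eq_one_iff _).1 ?_)
      show QuotientGroup.mk' S' (nW * zW * nW⁻¹ * zW⁻¹) = 1
      simp only [map_mul, map_inv]
      rw [hcommQ (QuotientGroup.mk' S' nW), mul_inv_cancel_right, mul_inv_cancel]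
    push_cast at hcS
    change n * Φ.z * n⁻¹ * Φ.z⁻¹ ∈ S at hcS
    -- `n z n⁻¹` fixes `e`, `z` inverts it
    have hc1 : n * Φ.z * n⁻¹ * e * (n * Φ.z * n⁻¹)⁻¹ = e := by
      rw [he, show n * Φ.z * n⁻¹ * (n * Φ.m * n⁻¹) * (n * Φ.z * n⁻¹)⁻¹ = n * (Φ.z * Φ.m * Φ.z⁻¹) * n⁻¹ by group,
        hzk.eq, mul_inv_cancel_right]
    have hce : Commute (n * Φ.z * n⁻¹ * Φ.z⁻¹) e⁻¹ := by
      obtain ⟨y, hy, j, hyj⟩ := hcS
      rw [hyj]
      exact ((Φ.K_comm hy heK).mul_left ((hcen e heK).pow_left j)).inv_right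
    rw [show n * Φ.z * n⁻¹ * e * (n * Φ.z * n⁻¹)⁻¹ = n * Φ.z * n⁻¹ * Φ.z⁻¹ * (Φ.z * e * Φ.z⁻¹) *
      (n * Φ.z * n⁻¹ * Φ.z⁻¹)⁻¹ by group, Φ.inv e heK, hce.eq, mul_inv_cancel_right] at hc1
    exact he1 (eq_one_of_odd_sq (Φ.K_odd heK) (by nth_rw 1 [← hc1]; exact inv_mul_cancel e))

/-- The element of order three moves some element of `K`. -/
theorem not_central (H : Setting t E F) (hvE : Φ.v ∈ E) (hk : Fintype.card F = 4 * Nat.card Φ.K + 1 ∨ Fintype.card F + 1 = 4 * Nat.card Φ.K) :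
    ∃ y ∈ Φ.K, ¬ Commute Φ.m y := by
  classical
  by_contra hcon
  push Not at hcon
  have h3 := Φ.not_three H hk hcon
  haveI : Fact (Nat.Prime 2) := ⟨Nat.prime_two⟩
  have h := H.hyp
  -- the centralizer of `m` in `C(z)`
  obtain ⟨g₀, hg₀⟩ := Φ.z_conj
  set m₀ := g₀⁻¹ * Φ.m * g₀ with hm₀
  have hm₀o : orderOf m₀ = 3 := by
    rw [hm₀, show g₀⁻¹ * Φ.m * g₀ = g₀⁻¹ * Φ.m * g₀⁻¹⁻¹ by rw [inv_inv]]
    exact ((MulAut.conj g₀⁻¹).orderOf_eq Φ.m).trans Φ.m_ord
  have hm₀t : Commute m₀ t := by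
    have := Φ.mz.map (MulAut.conj g₀⁻¹).toMonoidHom
    simpa [← hg₀, hm₀, mul_assoc] using this
  have hm₀E : m₀ ∈ E := h.odd_mem_E (by rw [hm₀o]; decide) hm₀t
  obtain ⟨f⟩ := h.iso
  set me : E := ⟨m₀, hm₀E⟩
  set CE := centralizer ({me} : Set E) with hCE
  set c := Nat.card CE with hc
  have hcP : c = Nat.card (centralizer ({f me} : Set (Matrix.ProjectiveSpecialLinearGroup (Fin 2) F))) := by
    refine Nat.card_congr (f.toEquiv.subtypeEquiv fun x => ?_)
    simp only [hCE, mem_centralizer_singleton_iff, MulEquiv.toEquiv_eq_coe, MulEquiv.coe_toEquiv]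
    rw [← map_mul, ← map_mul]
    exact ⟨fun e => congrArg f e, fun e => f.injective e⟩
  have hcb := psl_cent_three h.odd (y := f me) (by rw [f.orderOf_eq, orderOf_mk, hm₀o])
  rw [← hcP] at hcb
  have hbig := H.big
  have hcodd : Odd c := by
    rw [← Nat.not_even_iff_odd, even_iff_two_dvd]
    intro h2
    obtain ⟨⟨s, hs⟩, hso⟩ := exists_prime_orderOf_dvd_card' (G := CE) 2 h2
    rw [orderOf_mk] at hso
    obtain ⟨e, heE, he⟩ := h.conj s.2 (by rwa [orderOf_coe]) hvE Φ.v_ord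
    · have hsm : Commute (s : G) m₀ := congrArg Subtype.val (mem_centralizer_singleton_iff.1 hs)
      have hK : e * m₀ * e⁻¹ ∈ Φ.K := by
        refine (Φ.mem_K _).2 ⟨?_, ?_, ?_⟩
        · rw [show orderOf (e * m₀ * e⁻¹) = orderOf m₀ from (MulAut.conj e).orderOf_eq m₀, hm₀o]; decide
        · exact ((h.comm e heE).symm.mul_left hm₀t).mul_left (h.comm e heE).symm.inv_left
        · have := hsm.symm.map (MulAut.conj e).toMonoidHom
          simpa [he] using this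
      apply h3
      have := Subgroup.orderOf_dvd_natCard Φ.K hK
      rwa [show orderOf (e * m₀ * e⁻¹) = orderOf m₀ from (MulAut.conj e).orderOf_eq m₀, hm₀o] at this
  set HH : Subgroup G := (CE.map E.subtype).map (MulAut.conj g₀).toMonoidHom with hHH
  have hHHc : Nat.card HH = c := by
    rw [hHH, card_map_of_injective (MulAut.conj g₀).injective, card_map_of_injective E.subtype_injective]
  have hHmem : ∀ x, x ∈ HH ↔ Odd (orderOf x) ∧ Commute x Φ.z ∧ Commute x Φ.m := by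
    intro x
    rw [hHH, mem_map_equiv, MulAut.conj_symm_apply]
    constructor
    · rintro ⟨e, he, hex⟩
      have hx : x = g₀ * (e : G) * g₀⁻¹ := by rw [show (e : G) = g₀⁻¹ * x * g₀ from hex]; group
      refine ⟨?_, ?_, ?_⟩
      · rw [hx, show orderOf (g₀ * (e : G) * g₀⁻¹) = orderOf (e : G) from (MulAut.conj g₀).orderOf_eq _, orderOf_coe]
        exact hcodd.of_dvd_nat (Subgroup.orderOf_dvd_natCard _ he)
      · rw [hx, ← hg₀]
        exact (h.comm e e.2).symm.map (MulAut.conj g₀).toMonoidHom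
      · have := (show Commute (e : G) m₀ from congrArg Subtype.val (mem_centralizer_singleton_iff.1 he)).map
          (MulAut.conj g₀).toMonoidHom
        simpa [hx, hm₀, mul_assoc] using this
    · rintro ⟨ho, hz, hm⟩
      have hxt : Commute (g₀⁻¹ * x * g₀) t := by
        have := hz.map (MulAut.conj g₀⁻¹).toMonoidHom
        simpa [← hg₀, mul_assoc] using this
      have hxo : Odd (orderOf (g₀⁻¹ * x * g₀)) := by
        rwa [show g₀⁻¹ * x * g₀ = g₀⁻¹ * x * g₀⁻¹⁻¹ by rw [inv_inv],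
          show orderOf (g₀⁻¹ * x * g₀⁻¹⁻¹) = orderOf x from (MulAut.conj g₀⁻¹).orderOf_eq x]
      refine ⟨⟨_, h.odd_mem_E hxo hxt⟩, mem_centralizer_singleton_iff.2 (Subtype.ext ?_), rfl⟩
      have := hm.map (MulAut.conj g₀⁻¹).toMonoidHom
      simpa [me, hm₀, mul_assoc] using this.eq
  -- the 2-elements of `C(z) ∩ C(m)`
  have htwo : ∀ x, IsTwoEl x → Commute x Φ.z → Commute x Φ.m → x = 1 ∨ x = Φ.z := by
    intro x hx hxz hxm
    have hxt : Commute (g₀⁻¹ * x * g₀) t := by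
      have := hxz.map (MulAut.conj g₀⁻¹).toMonoidHom
      simpa [← hg₀, mul_assoc] using this
    obtain ⟨i, hi⟩ := hx
    have hx' : (g₀⁻¹ * x * g₀) ^ 2 ^ (i + 1) = 1 := by
      rw [show g₀⁻¹ * x * g₀ = g₀⁻¹ * x * g₀⁻¹⁻¹ by rw [inv_inv], conj_pow, pow_succ, pow_mul, hi, one_pow]
      simp
    obtain ⟨e, heE, r⟩ := h.split _ hxt
    have he2 : e ^ 2 ^ (i + 1) = 1 := by
      rcases r with r | r
      · rwa [r] at hx'
      · rw [r, (h.comm e heE).mul_pow, pow_succ' 2 i, pow_mul t, pow_two, h.tt, one_pow, one_mul] at hx'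
        rw [pow_succ' 2 i]
        exact hx'
    have hem : Commute e m₀ := by
      have h1 : Commute (g₀⁻¹ * x * g₀) m₀ := by
        have := hxm.map (MulAut.conj g₀⁻¹).toMonoidHom
        simpa [hm₀, mul_assoc] using this
      rcases r with r | r <;> rw [r] at h1
      · exact h1
      · have := hm₀t.symm.inv_left.mul_left h1
        rwa [inv_mul_cancel_left] at this
    have he1 : e = 1 := by
      refine IsTwoEl.eq_one ⟨i + 1, he2⟩ ?_
      have hmem : (⟨e, heE⟩ : E) ∈ CE := mem_centralizer_singleton_iff.2 (Subtype.ext hem.eq)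
      have := hcodd.of_dvd_nat (Subgroup.orderOf_dvd_natCard _ hmem)
      rwa [orderOf_mk] at this
    rw [he1, mul_one] at r
    rcases r with r | r
    · left
      rw [show x = g₀ * (g₀⁻¹ * x * g₀) * g₀⁻¹ by group, r]; group
    · right
      rw [show x = g₀ * (g₀⁻¹ * x * g₀) * g₀⁻¹ by group, r, hg₀]
  -- the normal complement in `C(m)`
  set C := centralizer ({Φ.m} : Set G) with hC
  set zC : C := ⟨Φ.z, mem_centralizer_singleton_iff.2 Φ.mz.symm.eq⟩ with hzC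
  obtain ⟨P, hP⟩ := (IsPGroup.of_card (G := zpowers zC) (n := 1)
    (by rw [Nat.card_zpowers, orderOf_mk, Φ.z_ord, pow_one])).exists_le_sylow
  have hPz : ∀ x ∈ (P : Subgroup C), x = 1 ∨ x = zC := by
    intro x hx
    obtain ⟨P', hP'⟩ := (P.isPGroup'.map C.subtype).exists_le_sylow
    haveI := Φ.ab P'
    have hxz : Commute (x : G) Φ.z := congrArg Subtype.val (mul_comm'
      (⟨x, hP' ⟨x, hx, rfl⟩⟩ : (P' : Subgroup G)) ⟨Φ.z, hP' ⟨zC, hP (mem_zpowers zC), rfl⟩⟩)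
    obtain ⟨i, hi⟩ := P.isPGroup' ⟨x, hx⟩
    rcases htwo x ⟨i, congrArg Subtype.val (congrArg Subtype.val hi)⟩ hxz
      (mem_centralizer_singleton_iff.1 x.2) with r | r
    · exact Or.inl (Subtype.ext r)
    · exact Or.inr (Subtype.ext r)
  have hzC1 : zC ≠ 1 := fun e => ne_one_of_order (by norm_num) Φ.z_ord (congrArg Subtype.val e)
  have hPN : normalizer ((P : Subgroup C) : Set C) ≤ centralizer ((P : Subgroup C) : Set C) := by
    intro g hg
    refine mem_centralizer_iff.2 fun x hx => ?_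
    rcases hPz x hx with rfl | rfl
    · simp
    · rcases hPz _ ((mem_normalizer_iff.1 hg zC).1 hx) with r | r
      · exact absurd (by rwa [mul_inv_eq_one, mul_eq_left] at r) hzC1
      · exact (mul_inv_eq_iff_eq_mul.1 r).symm
  set L := (MonoidHom.transferSylow P hPN).ker with hL
  have hcompl : IsComplement' L (P : Subgroup C) := MonoidHom.ker_transferSylow_isComplement' P hPN
  have hP2 : Nat.card (P : Subgroup C) = 2 := by
    rw [show (P : Subgroup C) = zpowers zC from le_antisymm (fun x hx => by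
      rcases hPz x hx with rfl | rfl
      · exact one_mem _
      · exact mem_zpowers _) hP, Nat.card_zpowers, orderOf_mk, Φ.z_ord]
  have hLi : L.index = 2 := by rw [hcompl.symm.index_eq_card, hP2]
  have hLodd : Odd (Nat.card L) := by
    rw [← Nat.not_even_iff_odd, even_iff_two_dvd]
    intro h2
    have e := L.card_mul_index
    rw [hLi] at e
    obtain ⟨d, hd⟩ := h2
    have hP' := P.card_eq_multiplicity
    rw [hP2] at hP'
    have h4 : 2 ^ 2 ∣ Nat.card C := ⟨d, by rw [← e, hd]; ring⟩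
    have := (Nat.Prime.pow_dvd_iff_le_factorization Nat.prime_two (Nat.card_pos).ne').1 h4
    have h1 : (Nat.card C).factorization 2 = 1 := by
      have := Nat.pow_right_injective le_rfl (hP'.symm.trans (pow_one 2).symm)
      exact this
    omega
  have hLmem : ∀ x : C, Odd (orderOf x) → x ∈ L := by
    intro x hx
    obtain ⟨j, hj⟩ := exists_sq_pow hx
    rw [hj]
    exact pow_mem (L.mul_self_mem_of_index_two hLi x) j
  -- the quotient by `⟨m⟩`
  have hmL : (⟨Φ.m, mem_centralizer_singleton_iff.2 rfl⟩ : C) ∈ L :=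
    hLmem _ (by rw [orderOf_mk, Φ.m_ord]; decide)
  set mL : L := ⟨⟨Φ.m, mem_centralizer_singleton_iff.2 rfl⟩, hmL⟩ with hmLdef
  set Z := zpowers mL with hZ
  have hmcomm : ∀ x : L, Commute x mL := fun x => Subtype.ext (Subtype.ext
    (mem_centralizer_singleton_iff.1 (x : C).2))
  haveI : Z.Normal := ⟨fun s hs g => by
    obtain ⟨i, rfl⟩ := hs
    rw [((hmcomm g).zpow_right i).eq, mul_inv_cancel_right]
    exact ⟨i, rfl⟩⟩
  haveI : L.Normal := MonoidHom.normal_ker _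
  set φ₀ : MulAut L := MulAut.conjNormal zC with hφ₀
  have hφ₀v : ∀ x : L, (((φ₀ x : L) : C) : G) = Φ.z * ((x : C) : G) * Φ.z⁻¹ := fun x => by
    rw [hφ₀, MulAut.conjNormal_apply]; rfl
  have hφm : φ₀ mL = mL := Subtype.ext (Subtype.ext (by
    rw [hφ₀v]; show Φ.z * Φ.m * Φ.z⁻¹ = Φ.m; rw [Φ.mz.symm.eq, mul_inv_cancel_right]))
  have hmapZ : Z.map (φ₀ : L →* L) = Z := by
    rw [hZ, MonoidHom.map_zpowers]
    exact congrArg zpowers hφm
  set φ : MulAut (L ⧸ Z) := QuotientGroup.congr Z Z φ₀ hmapZ with hφ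
  have hφmk : ∀ x : L, φ (QuotientGroup.mk' Z x) = QuotientGroup.mk' Z (φ₀ x) := fun x => rfl
  have hZmem : ∀ x : L, x ∈ Z → ∃ i : ℕ, ((x : C) : G) = Φ.m ^ i := fun x hx => by
    obtain ⟨i, hi⟩ := (isOfFinOrder_of_finite mL).mem_powers_iff_mem_zpowers.2 hx
    exact ⟨i, by rw [← hi]; push_cast; rfl⟩
  have hmkeq : ∀ a b : L, QuotientGroup.mk' Z a = QuotientGroup.mk' Z b →
      ∃ i : ℕ, ((b : C) : G) = ((a : C) : G) * Φ.m ^ i := fun a b e => by
    obtain ⟨i, hi⟩ := hZmem _ (QuotientGroup.eq.1 e)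
    push_cast at hi
    exact ⟨i, by rw [← hi, mul_inv_cancel_left]⟩
  have hmk_of : ∀ (a b : L) (i : ℕ), ((b : C) : G) = ((a : C) : G) * Φ.m ^ i →
      QuotientGroup.mk' Z a = QuotientGroup.mk' Z b := fun a b i e => by
    refine QuotientGroup.eq.2 ?_
    rw [show a⁻¹ * b = mL ^ i from Subtype.ext (Subtype.ext (by push_cast; rw [e, inv_mul_cancel_left]))]
    exact pow_mem (mem_zpowers mL) i
  -- `K` in the quotient
  have hKL : ∀ y ∈ Φ.K, ∃ hyC : y ∈ C, (⟨y, hyC⟩ : C) ∈ L := fun y hy =>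
    ⟨mem_centralizer_singleton_iff.2 (hcon y hy).symm.eq, hLmem _ (by rw [orderOf_mk]; exact Φ.K_odd hy)⟩
  set KL : Subgroup L := (Φ.K.subgroupOf C).subgroupOf L with hKLdef
  set KY : Subgroup (L ⧸ Z) := KL.map (QuotientGroup.mk' Z) with hKY
  have hkK : ∀ {y : G}, y ∈ Φ.K → y ^ Nat.card Φ.K = 1 := fun {y} hy =>
    congrArg Subtype.val (pow_card_eq_one' (G := Φ.K) (x := ⟨y, hy⟩))
  -- the part in `⟨m⟩` of an element whose order divides that of `K`
  have hstrip : ∀ {y a : G} {i : ℕ}, a ∈ Φ.K → y ^ Nat.card Φ.K = 1 → y = a * Φ.m ^ i → y = a := by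
    intro y a i ha hy e
    rw [e, ((hcon a ha).pow_left i).symm.mul_pow, hkK ha, one_mul, ← pow_mul] at hy
    have hdi : 3 ∣ i := by
      have := orderOf_dvd_of_pow_eq_one hy
      rw [Φ.m_ord] at this
      exact ((Nat.Prime.coprime_iff_not_dvd Nat.prime_three).2 h3).dvd_of_dvd_mul_right this
    obtain ⟨d, rfl⟩ := hdi
    rw [e, pow_mul, ← Φ.m_ord, pow_orderOf_eq_one, one_pow, mul_one]
  have hconjpow : ∀ {y : G} (g : G), y ∈ Φ.K → (g * y * g⁻¹) ^ Nat.card Φ.K = 1 := fun g hy => by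
    rw [conj_pow, hkK hy]; simp
  refine Kill.count_kill (Y := L ⧸ Z) φ (fun q => ?_) ?_ KY ?_ ?_ ?_ ?_ ?_ ?_ ?_
  · obtain ⟨x, rfl⟩ := QuotientGroup.mk'_surjective Z q
    rw [hφmk, hφmk]
    refine congrArg _ (Subtype.ext (Subtype.ext ?_))
    rw [hφ₀v, hφ₀v, show Φ.z * (Φ.z * ((x : C) : G) * Φ.z⁻¹) * Φ.z⁻¹ = (Φ.z * Φ.z) * ((x : C) : G) * (Φ.z * Φ.z)⁻¹ by
      group, Φ.zz]
    simp
  · exact hLodd.of_dvd_nat (Subgroup.card_quotient_dvd_card Z)
  · rintro _ ⟨a, ha, rfl⟩ _ ⟨b, hb, rfl⟩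
    rw [← map_mul, ← map_mul]
    exact congrArg _ (Subtype.ext (Subtype.ext (Φ.K_comm (mem_subgroupOf.1 (mem_subgroupOf.1 ha))
      (mem_subgroupOf.1 (mem_subgroupOf.1 hb))).eq))
  · rintro _ ⟨a, ha, rfl⟩
    rw [hφmk, ← map_inv]
    refine congrArg _ (Subtype.ext (Subtype.ext ?_))
    rw [hφ₀v, Φ.inv _ (mem_subgroupOf.1 (mem_subgroupOf.1 ha))]
    push_cast; rfl
  · rintro _ ⟨a, ha, rfl⟩ hne q hq
    obtain ⟨x, rfl⟩ := QuotientGroup.mk'_surjective Z q
    have haK : ((a : C) : G) ∈ Φ.K := mem_subgroupOf.1 (mem_subgroupOf.1 ha)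
    have ha1 : ((a : C) : G) ≠ 1 := fun e => hne (by
      rw [show a = 1 from Subtype.ext (Subtype.ext e), map_one])
    obtain ⟨i, hi⟩ := hmkeq (a * x) (x * a) (by rw [map_mul, map_mul]; exact hq.symm)
    push_cast at hi
    set xg := ((x : C) : G) with hxg
    set ag := ((a : C) : G) with hag
    have hxm : Commute xg Φ.m := mem_centralizer_singleton_iff.1 (x : C).2
    have h1 : xg * ag * xg⁻¹ = ag * Φ.m ^ i := by
      rw [hi, show ag * xg * Φ.m ^ i * xg⁻¹ = ag * (xg * Φ.m ^ i * xg⁻¹) by group, (hxm.pow_right i).eq,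
        mul_inv_cancel_right]
    have h2 := hstrip haK (hconjpow xg haK) h1
    obtain ⟨y', hy', j, hj⟩ := Φ.cent_m hcon haK ha1 (mul_inv_eq_iff_eq_mul.1 h2) hxm
    obtain ⟨hyC, hyL⟩ := hKL y' hy'
    exact ⟨⟨⟨y', hyC⟩, hyL⟩, mem_subgroupOf.2 (mem_subgroupOf.2 hy'), hmk_of _ _ j hj⟩
  · rintro _ ⟨a, ha, rfl⟩ hne q hfix hq
    obtain ⟨x, rfl⟩ := QuotientGroup.mk'_surjective Z q
    have haK : ((a : C) : G) ∈ Φ.K := mem_subgroupOf.1 (mem_subgroupOf.1 ha)
    have ha1 : ((a : C) : G) ≠ 1 := fun e => hne (by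
      rw [show a = 1 from Subtype.ext (Subtype.ext e), map_one])
    rw [hφmk] at hfix
    obtain ⟨i, hi⟩ := hmkeq _ _ hfix.symm
    rw [hφ₀v] at hi
    set xg := ((x : C) : G) with hxg
    set ag := ((a : C) : G) with hag
    have hxm : Commute xg Φ.m := mem_centralizer_singleton_iff.1 (x : C).2
    have hxz : Commute xg Φ.z := by
      have h2i : Φ.z * (xg * Φ.m ^ i) * Φ.z⁻¹ = xg := by
        rw [← hi, show Φ.z * (Φ.z * xg * Φ.z⁻¹) * Φ.z⁻¹ = (Φ.z * Φ.z) * xg * (Φ.z * Φ.z)⁻¹ by group, Φ.zz]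
        simp
      rw [show Φ.z * (xg * Φ.m ^ i) * Φ.z⁻¹ = (Φ.z * xg * Φ.z⁻¹) * (Φ.z * Φ.m ^ i * Φ.z⁻¹) by group, hi,
        (Φ.mz.symm.pow_right i).eq, mul_inv_cancel_right, mul_assoc, mul_eq_left] at h2i
      have h1 : Φ.m ^ i = 1 := eq_one_of_odd_sq
        ((Φ.m_ord.symm ▸ (by decide : Odd 3) : Odd (orderOf Φ.m)).of_dvd_nat (orderOf_pow_dvd i)) h2i
      rw [h1, mul_one] at hi
      exact (mul_inv_eq_iff_eq_mul.1 hi).symm
    obtain ⟨b, hb, hbq⟩ := hq
    obtain ⟨j, hj⟩ := hmkeq b (x * a * x⁻¹) (by rw [hbq, map_mul, map_mul, map_inv])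
    push_cast at hj
    have hbK : ((b : C) : G) ∈ Φ.K := mem_subgroupOf.1 (mem_subgroupOf.1 hb)
    have h2 := hstrip hbK (hconjpow xg haK) hj
    have hxo : Odd (orderOf xg) := by
      rw [hxg, orderOf_coe, orderOf_coe]; exact hLodd.of_dvd_nat (orderOf_dvd_natCard _)
    obtain ⟨l, hl⟩ := Φ.norm_fix hcon haK ha1 hxo hxm hxz (h2 ▸ hbK)
    rw [show (1 : L ⧸ Z) = QuotientGroup.mk' Z 1 from (map_one _).symm]
    exact (hmk_of 1 x l (by rw [← hxg, hl]; simp)).symm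
  · -- a nontrivial fixed element
    have hle : 3 < Nat.card HH := by
      rw [hHHc]
      have hcp : 0 < c := hc ▸ Nat.card_pos
      omega
    obtain ⟨x, hx, hxm⟩ : ∃ x ∈ HH, x ∉ zpowers Φ.m := by
      by_contra hall
      push Not at hall
      have := Subgroup.card_le_of_le (show HH ≤ zpowers Φ.m from hall)
      rw [Nat.card_zpowers, Φ.m_ord] at this
      omega
    obtain ⟨hxo, hxz, hxc⟩ := (hHmem x).1 hx
    have hxC : x ∈ C := mem_centralizer_singleton_iff.2 hxc.eq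
    have hxL : (⟨x, hxC⟩ : C) ∈ L := hLmem _ (by rwa [orderOf_mk])
    refine ⟨QuotientGroup.mk' Z ⟨⟨x, hxC⟩, hxL⟩, ?_, fun e => hxm ?_⟩
    · rw [hφmk]
      refine congrArg _ (Subtype.ext (Subtype.ext ?_))
      rw [hφ₀v]
      show Φ.z * x * Φ.z⁻¹ = x
      rw [hxz.symm.eq, mul_inv_cancel_right]
    · obtain ⟨i, hi⟩ := hZmem _ ((QuotientGroup.eq_one_iff _).1 e)
      rw [show x = Φ.m ^ i from hi]; exact pow_mem (mem_zpowers _) i
  · have hcard : Nat.card KY = Nat.card Φ.K := by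
      refine (Nat.card_congr (Equiv.ofBijective (fun y : Φ.K =>
        (⟨QuotientGroup.mk' Z ⟨⟨y, (hKL y y.2).1⟩, (hKL y y.2).2⟩,
          mem_map_of_mem _ (mem_subgroupOf.2 (mem_subgroupOf.2 y.2))⟩ : KY)) ⟨?_, ?_⟩)).symm
      · intro y y' e
        obtain ⟨i, hi⟩ := hmkeq _ _ (congrArg Subtype.val e)
        exact Subtype.ext (hstrip y.2 (hkK y'.2) hi).symm
      · rintro ⟨_, a, ha, rfl⟩
        exact ⟨⟨_, mem_subgroupOf.1 (mem_subgroupOf.1 ha)⟩, rfl⟩
    have := Φ.three_le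
    omega
  · have hcard : Nat.card KY = Nat.card Φ.K := by
      refine (Nat.card_congr (Equiv.ofBijective (fun y : Φ.K =>
        (⟨QuotientGroup.mk' Z ⟨⟨y, (hKL y y.2).1⟩, (hKL y y.2).2⟩,
          mem_map_of_mem _ (mem_subgroupOf.2 (mem_subgroupOf.2 y.2))⟩ : KY)) ⟨?_, ?_⟩)).symm
      · intro y y' e
        obtain ⟨i, hi⟩ := hmkeq _ _ (congrArg Subtype.val e)
        exact Subtype.ext (hstrip y.2 (hkK y'.2) hi).symm
      · rintro ⟨_, a, ha, rfl⟩
        exact ⟨⟨_, mem_subgroupOf.1 (mem_subgroupOf.1 ha)⟩, rfl⟩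
    rw [hcard]
    have hfixH : ∀ q : {q : L ⧸ Z // φ q = q}, ∃ x ∈ HH, ∃ (hxC : x ∈ C) (hxL : (⟨x, hxC⟩ : C) ∈ L),
        (q : L ⧸ Z) = QuotientGroup.mk' Z ⟨⟨x, hxC⟩, hxL⟩ := by
      rintro ⟨q, hq⟩
      obtain ⟨x, rfl⟩ := QuotientGroup.mk'_surjective Z q
      rw [hφmk] at hq
      obtain ⟨i, hi⟩ := hmkeq _ _ hq.symm
      rw [hφ₀v] at hi
      set xg := ((x : C) : G) with hxg
      have hxm : Commute xg Φ.m := mem_centralizer_singleton_iff.1 (x : C).2
      have h2i : Φ.z * (xg * Φ.m ^ i) * Φ.z⁻¹ = xg := by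
        rw [← hi, show Φ.z * (Φ.z * xg * Φ.z⁻¹) * Φ.z⁻¹ = (Φ.z * Φ.z) * xg * (Φ.z * Φ.z)⁻¹ by group, Φ.zz]
        simp
      rw [show Φ.z * (xg * Φ.m ^ i) * Φ.z⁻¹ = (Φ.z * xg * Φ.z⁻¹) * (Φ.z * Φ.m ^ i * Φ.z⁻¹) by group, hi,
        (Φ.mz.symm.pow_right i).eq, mul_inv_cancel_right, mul_assoc, mul_eq_left] at h2i
      have h1 : Φ.m ^ i = 1 := eq_one_of_odd_sq
        ((Φ.m_ord.symm ▸ (by decide : Odd 3) : Odd (orderOf Φ.m)).of_dvd_nat (orderOf_pow_dvd i)) h2i
      rw [h1, mul_one] at hi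
      refine ⟨xg, (hHmem _).2 ⟨?_, (mul_inv_eq_iff_eq_mul.1 hi).symm, hxm⟩, (x : C).2, x.2, rfl⟩
      rw [hxg, orderOf_coe, orderOf_coe]; exact hLodd.of_dvd_nat (orderOf_dvd_natCard _)
    choose xf hxfH hxfC hxfL hxfq using hfixH
    have hmH : Φ.m ∈ HH := (hHmem _).2 ⟨by rw [Φ.m_ord]; decide, Φ.mz, Commute.refl _⟩
    have h3c : Nat.card {q : L ⧸ Z // φ q = q} * 3 ≤ c := by
      rw [← hHHc, show (3 : ℕ) = Nat.card (Fin 3) by simp, ← Nat.card_prod]
      refine Nat.card_le_card_of_injective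
        (fun p => (⟨xf p.1 * Φ.m ^ (p.2 : ℕ), mul_mem (hxfH p.1) (pow_mem hmH _)⟩ : HH)) ?_
      rintro ⟨q, i⟩ ⟨q', i'⟩ e
      simp only [Subtype.mk.injEq] at e
      have hqq : q = q' := by
        have hm3i : ∀ j : ℕ, j < 3 → Φ.m ^ j * Φ.m ^ (3 - j) = 1 := fun j hj => by
          rw [← pow_add, show j + (3 - j) = orderOf Φ.m by rw [Φ.m_ord]; omega, pow_orderOf_eq_one]
        refine Subtype.ext ?_
        rw [hxfq q, hxfq q']
        refine hmk_of _ _ ((i : ℕ) + (3 - i')) ?_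
        show xf q' = xf q * Φ.m ^ ((i : ℕ) + (3 - i'))
        rw [pow_add, ← mul_assoc, e, mul_assoc, hm3i _ i'.2, mul_one]
      subst hqq
      have e2 := mul_left_cancel e
      refine Prod.ext rfl (Fin.ext ?_)
      rw [pow_inj_mod, Φ.m_ord, Nat.mod_eq_of_lt i.2, Nat.mod_eq_of_lt i'.2] at e2
      exact e2
    have h3k := Φ.three_le
    omega

end Frame

end Cfsg.Lib.Ree
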