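import Cfsg.Agent.Ree.Torus.Frame

/-!
Consequences of the frame: the group `T0 = V × K`, the centralizer and the normalizer of `V`.
-/

set_option autoImplicit false
set_option linter.style.haveILetI false
set_option linter.unusedSectionVars false

namespace Cfsg.Lib.Ree

open Subgroup Cfsg.Lib.TwoTimesPSL

universe u

variable {G : Type u} [Group G] {t : G}

theorem sq_one_of_order {x : G} (hx : orderOf x = 2) : x * x = 1 := by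
  rw [← pow_two, ← hx, pow_orderOf_eq_one]

theorem ne_one_of_order {x : G} {p : ℕ} (hp : p ≠ 1) (hx : orderOf x = p) : x ≠ 1 := fun e =>
  hp (by rw [← hx, e, orderOf_one])

theorem eq_one_of_odd_sq {x : G} (ho : Odd (orderOf x)) (h : x * x = 1) : x = 1 :=
  orderOf_eq_one_iff.1 (Nat.Coprime.eq_one_of_dvd (Nat.coprime_two_right.2 ho)
    (orderOf_dvd_of_pow_eq_one (by rw [pow_two]; exact h)))

/-- A power of an element of odd order equal to it, with even exponent. -/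
theorem exists_sq_pow {x : G} (ho : Odd (orderOf x)) : ∃ j : ℕ, x = (x * x) ^ j := by
  obtain ⟨k, hk⟩ := ho
  exact ⟨k + 1, by rw [← pow_two, ← pow_mul, show 2 * (k + 1) = orderOf x + 1 by omega, pow_succ,
    pow_orderOf_eq_one, one_mul]⟩

namespace Frame

variable (Φ : Frame t)

include Φ in
theorem tt : t * t = 1 := sq_one_of_order Φ.t_ord

theorem vv : Φ.v * Φ.v = 1 := sq_one_of_order Φ.v_ord

theorem zz : Φ.z * Φ.z = 1 := sq_one_of_order Φ.z_ord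

theorem m3 : Φ.m * Φ.m * Φ.m = 1 := by
  rw [← pow_two, ← pow_succ, show 2 + 1 = orderOf Φ.m by rw [Φ.m_ord], pow_orderOf_eq_one]

/-- The four-group. -/
def V : Subgroup G where
  carrier := {w | InFour t Φ.v w}
  one_mem' := Or.inl rfl
  inv_mem' := by
    rintro w (rfl | rfl | rfl | rfl)
    · exact Or.inl inv_one
    · exact Or.inr (Or.inl (inv_eq_of_mul_eq_one_right Φ.tt))
    · exact Or.inr (Or.inr (Or.inl (inv_eq_of_mul_eq_one_right Φ.vv)))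
    · exact Or.inr (Or.inr (Or.inr (by
        rw [mul_inv_rev, inv_eq_of_mul_eq_one_right Φ.vv, inv_eq_of_mul_eq_one_right Φ.tt, Φ.tv.eq])))
  mul_mem' := by
    intro x w hx hw
    have e1 : t * (t * Φ.v) = Φ.v := by rw [← mul_assoc, Φ.tt, one_mul]
    have e2 : Φ.v * (t * Φ.v) = t := by rw [← mul_assoc, ← Φ.tv.eq, mul_assoc, Φ.vv, mul_one]
    have e3 : t * Φ.v * t = Φ.v := by rw [mul_assoc, ← Φ.tv.eq, e1]
    have e4 : t * Φ.v * Φ.v = t := by rw [mul_assoc, Φ.vv, mul_one]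
    have e5 : t * Φ.v * (t * Φ.v) = 1 := by rw [← mul_assoc, e3, Φ.vv]
    rcases hx with rfl | rfl | rfl | rfl <;> rcases hw with rfl | rfl | rfl | rfl <;>
      simp [InFour, Φ.tt, Φ.vv, Φ.tv.eq.symm, e1, e2, e3, e4, e5]

theorem mem_V {w : G} : w ∈ Φ.V ↔ InFour t Φ.v w := Iff.rfl

theorem t_mem : t ∈ Φ.V := Or.inr (Or.inl rfl)

theorem v_mem : Φ.v ∈ Φ.V := Or.inr (Or.inr (Or.inl rfl))

theorem tv_mem : t * Φ.v ∈ Φ.V := Or.inr (Or.inr (Or.inr rfl))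

theorem V_sq {w : G} (hw : w ∈ Φ.V) : w * w = 1 := by
  rcases hw with rfl | rfl | rfl | rfl
  · rw [one_mul]
  · exact Φ.tt
  · exact Φ.vv
  · rw [mul_assoc, ← mul_assoc Φ.v, ← Φ.tv.eq, mul_assoc, Φ.vv, mul_one, Φ.tt]

include Φ in
theorem t_ne : t ≠ 1 := ne_one_of_order (by norm_num) Φ.t_ord

theorem v_ne_one : Φ.v ≠ 1 := ne_one_of_order (by norm_num) Φ.v_ord

theorem tv_ne : t * Φ.v ≠ 1 := fun e => Φ.v_ne (by
  rw [eq_inv_of_mul_eq_one_right e, inv_eq_of_mul_eq_one_right Φ.tt])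

theorem V_order {w : G} (hw : w ∈ Φ.V) (h1 : w ≠ 1) : orderOf w = 2 :=
  orderOf_eq_prime (by rw [pow_two]; exact Φ.V_sq hw) h1

theorem K_odd {y : G} (hy : y ∈ Φ.K) : Odd (orderOf y) := ((Φ.mem_K y).1 hy).1

theorem K_t {y : G} (hy : y ∈ Φ.K) : Commute y t := ((Φ.mem_K y).1 hy).2.1

theorem K_v {y : G} (hy : y ∈ Φ.K) : Commute y Φ.v := ((Φ.mem_K y).1 hy).2.2

theorem V_comm_K {w y : G} (hw : w ∈ Φ.V) (hy : y ∈ Φ.K) : Commute w y := by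
  rcases hw with rfl | rfl | rfl | rfl
  · exact Commute.one_left y
  · exact (Φ.K_t hy).symm
  · exact (Φ.K_v hy).symm
  · exact (Φ.K_t hy).symm.mul_left (Φ.K_v hy).symm

theorem V_comm {w w' : G} (hw : w ∈ Φ.V) (hw' : w' ∈ Φ.V) : Commute w w' := by
  have h := Φ.V_sq (mul_mem hw hw')
  show w * w' = w' * w
  rw [eq_inv_of_mul_eq_one_left h, mul_inv_rev, inv_eq_of_mul_eq_one_right (Φ.V_sq hw'),
    inv_eq_of_mul_eq_one_right (Φ.V_sq hw)]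

theorem K_comm {a b : G} (ha : a ∈ Φ.K) (hb : b ∈ Φ.K) : Commute a b := by
  haveI := Φ.cyclic_K
  obtain ⟨g, hg⟩ := IsCyclic.exists_generator (α := Φ.K)
  obtain ⟨i, hi⟩ := hg ⟨a, ha⟩
  obtain ⟨j, hj⟩ := hg ⟨b, hb⟩
  have := ((Commute.refl g).zpow_zpow i j).map Φ.K.subtype
  simp only at hi hj
  rwa [hi, hj] at this

theorem eq_one_of_mem_inf {x : G} (hV : x ∈ Φ.V) (hK : x ∈ Φ.K) : x = 1 :=
  eq_one_of_odd_sq (Φ.K_odd hK) (Φ.V_sq hV)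

/-- `V × K`. -/
def T0 : Subgroup G where
  carrier := {x | ∃ w ∈ Φ.V, ∃ y ∈ Φ.K, x = w * y}
  one_mem' := ⟨1, one_mem _, 1, one_mem _, (one_mul 1).symm⟩
  inv_mem' := by
    rintro x ⟨w, hw, y, hy, rfl⟩
    exact ⟨w⁻¹, inv_mem hw, y⁻¹, inv_mem hy, by rw [(Φ.V_comm_K hw hy).eq, mul_inv_rev]⟩
  mul_mem' := by
    rintro x x' ⟨w, hw, y, hy, rfl⟩ ⟨w', hw', y', hy', rfl⟩
    refine ⟨w * w', mul_mem hw hw', y * y', mul_mem hy hy', ?_⟩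
    rw [mul_assoc w y, ← mul_assoc y w', ← (Φ.V_comm_K hw' hy).eq]
    simp only [mul_assoc]

theorem mul_mem_T0 {w y : G} (hw : w ∈ Φ.V) (hy : y ∈ Φ.K) : w * y ∈ Φ.T0 := ⟨w, hw, y, hy, rfl⟩

theorem V_le_T0 : Φ.V ≤ Φ.T0 := fun w hw => ⟨w, hw, 1, one_mem _, (mul_one w).symm⟩

theorem K_le_T0 : Φ.K ≤ Φ.T0 := fun y hy => ⟨1, one_mem _, y, hy, (one_mul y).symm⟩

theorem split_unique {w w' y y' : G} (hw : w ∈ Φ.V) (hw' : w' ∈ Φ.V) (hy : y ∈ Φ.K) (hy' : y' ∈ Φ.K)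
    (h : w * y = w' * y') : w = w' ∧ y = y' := by
  have e : w'⁻¹ * w = y' * y⁻¹ := by
    rw [eq_mul_inv_iff_mul_eq, mul_assoc, h, inv_mul_cancel_left]
  have h1 := Φ.eq_one_of_mem_inf (x := w'⁻¹ * w) (mul_mem (inv_mem hw') hw) (e ▸ mul_mem hy' (inv_mem hy))
  rw [inv_mul_eq_one] at h1
  subst h1
  exact ⟨rfl, mul_left_cancel h⟩

theorem T0_comm {a b : G} (ha : a ∈ Φ.T0) (hb : b ∈ Φ.T0) : Commute a b := by
  obtain ⟨w, hw, y, hy, rfl⟩ := ha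
  obtain ⟨w', hw', y', hy', rfl⟩ := hb
  exact ((Φ.V_comm hw hw').mul_right (Φ.V_comm_K hw hy')).mul_left
    ((Φ.V_comm_K hw' hy).symm.mul_right (Φ.K_comm hy hy'))

theorem T0_t {a : G} (ha : a ∈ Φ.T0) : Commute a t := Φ.T0_comm ha (Φ.V_le_T0 Φ.t_mem)

theorem T0_v {a : G} (ha : a ∈ Φ.T0) : Commute a Φ.v := Φ.T0_comm ha (Φ.V_le_T0 Φ.v_mem)

theorem mem_K_of_odd {x : G} (hx : x ∈ Φ.T0) (ho : Odd (orderOf x)) : x ∈ Φ.K :=
  (Φ.mem_K x).2 ⟨ho, Φ.T0_t hx, Φ.T0_v hx⟩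

theorem mem_V_of_sq {x : G} (hx : x ∈ Φ.T0) (h : x * x = 1) : x ∈ Φ.V := by
  obtain ⟨w, hw, y, hy, rfl⟩ := hx
  have hy2 : y * y = 1 := by
    have e : w * w * (y * y) = 1 := by
      rw [← h, mul_assoc w y (w * y), ← mul_assoc y w y, ← (Φ.V_comm_K hw hy).eq]
      simp only [mul_assoc]
    rwa [Φ.V_sq hw, one_mul] at e
  rwa [eq_one_of_odd_sq (Φ.K_odd hy) hy2, mul_one]

/-- No element of `C(t)` outside `T0` commutes with a nontrivial element of `K`. -/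
theorem mem_T0_of_comm {y x : G} (hy : y ∈ Φ.K) (hy1 : y ≠ 1) (hxt : Commute x t) (hxy : Commute x y) :
    x ∈ Φ.T0 := by
  obtain ⟨y', hy', w, hw, r | r⟩ := Φ.cen x hxt (Φ.cen_y y hy hy1 x hxt hxy)
  · exact r ▸ Φ.mul_mem_T0 hw hy'
  · exfalso
    apply hy1
    have hzy : Commute Φ.z y := by
      have h1 : Commute (w⁻¹ * x * y'⁻¹) y :=
        ((Φ.V_comm_K (inv_mem hw) hy).mul_left hxy).mul_left (Φ.K_comm (inv_mem hy') hy)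
      rwa [r, inv_mul_cancel_left, mul_inv_cancel_right] at h1
    refine eq_one_of_odd_sq (Φ.K_odd hy) ?_
    have h := Φ.inv y hy
    rw [hzy.eq, mul_inv_cancel_right] at h
    nth_rw 2 [h]
    exact mul_inv_cancel y

theorem m_tv : Φ.m * (t * Φ.v) * Φ.m⁻¹ = t := by
  rw [show Φ.m * (t * Φ.v) * Φ.m⁻¹ = (Φ.m * t * Φ.m⁻¹) * (Φ.m * Φ.v * Φ.m⁻¹) by group, Φ.m_t, Φ.m_v,
    ← mul_assoc, ← Φ.tv.eq, mul_assoc, Φ.vv, mul_one]

theorem conj_V {w : G} (hw : w ∈ Φ.V) : Φ.m * w * Φ.m⁻¹ ∈ Φ.V := by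
  rcases hw with rfl | rfl | rfl | rfl
  · rw [mul_one, mul_inv_cancel]; exact one_mem _
  · rw [Φ.m_t]; exact Φ.v_mem
  · rw [Φ.m_v]; exact Φ.tv_mem
  · rw [Φ.m_tv]; exact Φ.t_mem

theorem conj_K {y : G} (hy : y ∈ Φ.K) : Φ.m * y * Φ.m⁻¹ ∈ Φ.K := by
  refine (Φ.mem_K _).2 ⟨by
    rw [show orderOf (Φ.m * y * Φ.m⁻¹) = orderOf y from (MulAut.conj Φ.m).orderOf_eq y]; exact Φ.K_odd hy, ?_, ?_⟩
  · have h := ((Φ.K_t hy).mul_right (Φ.K_v hy)).map (MulAut.conj Φ.m).toMonoidHom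
    simpa [Φ.m_tv] using h
  · have h := (Φ.K_t hy).map (MulAut.conj Φ.m).toMonoidHom
    simpa [Φ.m_t] using h

theorem conjPow_K {y : G} (hy : y ∈ Φ.K) : ∀ i : ℕ, Φ.m ^ i * y * (Φ.m ^ i)⁻¹ ∈ Φ.K
  | 0 => by simpa using hy
  | i + 1 => by
    rw [pow_succ', show Φ.m * Φ.m ^ i * y * (Φ.m * Φ.m ^ i)⁻¹ = Φ.m * (Φ.m ^ i * y * (Φ.m ^ i)⁻¹) * Φ.m⁻¹ by group]
    exact Φ.conj_K (conjPow_K hy i)

theorem conjPow_V {w : G} (hw : w ∈ Φ.V) : ∀ i : ℕ, Φ.m ^ i * w * (Φ.m ^ i)⁻¹ ∈ Φ.V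
  | 0 => by simpa using hw
  | i + 1 => by
    rw [pow_succ', show Φ.m * Φ.m ^ i * w * (Φ.m * Φ.m ^ i)⁻¹ = Φ.m * (Φ.m ^ i * w * (Φ.m ^ i)⁻¹) * Φ.m⁻¹ by group]
    exact Φ.conj_V (conjPow_V hw i)

theorem conjPow_T0 {x : G} (hx : x ∈ Φ.T0) (i : ℕ) : Φ.m ^ i * x * (Φ.m ^ i)⁻¹ ∈ Φ.T0 := by
  obtain ⟨w, hw, y, hy, rfl⟩ := hx
  exact ⟨_, Φ.conjPow_V hw i, _, Φ.conjPow_K hy i, by group⟩

/-- The nontrivial elements of `V` are the three conjugates of `t`. -/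
theorem exists_pow_t {w : G} (hw : w ∈ Φ.V) (h1 : w ≠ 1) : ∃ i < 3, Φ.m ^ i * t * (Φ.m ^ i)⁻¹ = w := by
  rcases hw with rfl | rfl | rfl | rfl
  · exact absurd rfl h1
  · exact ⟨0, by norm_num, by simp⟩
  · exact ⟨1, by norm_num, by rw [pow_one, Φ.m_t]⟩
  · refine ⟨2, by norm_num, ?_⟩
    rw [pow_two, show Φ.m * Φ.m * t * (Φ.m * Φ.m)⁻¹ = Φ.m * (Φ.m * t * Φ.m⁻¹) * Φ.m⁻¹ by group, Φ.m_t, Φ.m_v]

theorem m_pow_mod (i : ℕ) : Φ.m ^ i = Φ.m ^ (i % 3) := by rw [← Φ.m_ord, pow_mod_orderOf]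

/-- The centralizer of a nontrivial element of `V` and one of `K` is `T0`. -/
theorem mem_T0_of_comm_four {y x w : G} (hy : y ∈ Φ.K) (hy1 : y ≠ 1) (hw : w ∈ Φ.V) (hw1 : w ≠ 1)
    (hxw : Commute x w) (hxy : Commute x y) : x ∈ Φ.T0 := by
  obtain ⟨i, hi, rfl⟩ := Φ.exists_pow_t hw hw1
  set c := Φ.m ^ i
  have hci : c⁻¹ = Φ.m ^ (3 - i) := by
    rw [inv_eq_iff_mul_eq_one, ← pow_add, show i + (3 - i) = orderOf Φ.m by rw [Φ.m_ord]; omega,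
      pow_orderOf_eq_one]
  have hy' : c⁻¹ * y * c ∈ Φ.K := by
    have := Φ.conjPow_K hy (3 - i)
    rwa [← hci, inv_inv] at this
  have h := Φ.mem_T0_of_comm hy' (fun e => hy1 (by
    rw [show y = c * (c⁻¹ * y * c) * c⁻¹ by group, e]; group)) (x := c⁻¹ * x * c) ?_ ?_
  · have := Φ.conjPow_T0 h i
    rwa [show c * (c⁻¹ * x * c) * c⁻¹ = x by group] at this
  · have := hxw.map (MulAut.conj c⁻¹).toMonoidHom
    simpa [mul_assoc] using this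
  · have := hxy.map (MulAut.conj c⁻¹).toMonoidHom
    simpa [mul_assoc] using this

theorem m_comm_zero {w : G} (hw : w ∈ Φ.V) (h : Commute Φ.m w) : w = 1 := by
  by_contra h1
  have e : Φ.m * w * Φ.m⁻¹ = w := by rw [h.eq, mul_inv_cancel_right]
  rcases hw with rfl | rfl | rfl | rfl
  · exact h1 rfl
  · rw [Φ.m_t] at e; exact Φ.v_ne e
  · rw [Φ.m_v] at e
    exact Φ.t_ne (mul_eq_right.1 e)
  · rw [Φ.m_tv] at e
    exact Φ.v_ne_one (mul_eq_left.1 e.symm)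

theorem m_not_fix (i : ℕ) (hi : Φ.m ^ i * t * (Φ.m ^ i)⁻¹ = t) : i % 3 = 0 := by
  rw [Φ.m_pow_mod] at hi
  have h3 : i % 3 < 3 := Nat.mod_lt _ (by norm_num)
  interval_cases hr : i % 3
  · rfl
  · exfalso; rw [pow_one, Φ.m_t] at hi; exact Φ.v_ne hi
  · exfalso
    rw [pow_two, show Φ.m * Φ.m * t * (Φ.m * Φ.m)⁻¹ = Φ.m * (Φ.m * t * Φ.m⁻¹) * Φ.m⁻¹ by group, Φ.m_t, Φ.m_v] at hi
    exact Φ.v_ne_one (mul_eq_left.1 hi)

/-- `C(V) = T0⟨z⟩`. -/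
theorem cenV {x : G} (h1 : Commute x t) (h2 : Commute x Φ.v) :
    x ∈ Φ.T0 ∨ x * Φ.z ∈ Φ.T0 := by
  obtain ⟨y, hy, w, hw, r | r⟩ := Φ.cen x h1 h2
  · exact Or.inl (r ▸ Φ.mul_mem_T0 hw hy)
  · refine Or.inr ⟨w, hw, y⁻¹, inv_mem hy, ?_⟩
    rw [r, ← Φ.inv y hy, inv_eq_of_mul_eq_one_right Φ.zz]
    simp only [mul_assoc]

theorem z_T0 : Φ.z ∉ Φ.T0 := fun h => Φ.z_not (Φ.mem_V_of_sq h Φ.zz)

theorem conjz_V {w : G} (hw : w ∈ Φ.V) : Φ.z * w * Φ.z⁻¹ = w := by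
  have hc : Commute Φ.z w := by
    rcases hw with rfl | rfl | rfl | rfl
    · exact Commute.one_right _
    · exact Φ.tz.symm
    · exact Φ.vz.symm
    · exact Φ.tz.symm.mul_right Φ.vz.symm
  rw [hc.eq, mul_inv_cancel_right]

section Finite

variable [Finite G]

/-- A 2-element normalising `V` centralizes it. -/
theorem two_centralizes {u : G} (hu : IsTwoEl u) (hn : ∀ w ∈ Φ.V, u * w * u⁻¹ ∈ Φ.V) :
    Commute u t ∧ Commute u Φ.v := by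
  haveI : Fact (Nat.Prime 2) := ⟨Nat.prime_two⟩
  have h2 : IsPGroup 2 Φ.V := fun w => ⟨1, Subtype.ext (by
    rw [pow_one, pow_two]; exact Φ.V_sq w.2)⟩
  have hn' : zpowers u ≤ normalizer (Φ.V : Set G) :=
    zpowers_le.2 (Cfsg.Lib.ZStarApps.mem_normalizer_of_maps hn)
  obtain ⟨S, hS⟩ := (hu.isPGroup.to_sup_of_normal_right' h2 hn').exists_le_sylow
  haveI := Φ.ab S
  have hc : ∀ w ∈ Φ.V, Commute u w := fun w hw =>
    congrArg Subtype.val (mul_comm' (⟨u, hS (mem_sup_left (mem_zpowers u))⟩ : (S : Subgroup G))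
      ⟨w, hS (mem_sup_right hw)⟩)
  exact ⟨hc t Φ.t_mem, hc _ Φ.v_mem⟩

/-- `N(V) = C(V)⟨m⟩`. -/
theorem norm_V {g : G} (hg : ∀ w ∈ Φ.V, g * w * g⁻¹ ∈ Φ.V) :
    ∃ i < 3, Commute ((Φ.m ^ i)⁻¹ * g) t ∧ Commute ((Φ.m ^ i)⁻¹ * g) Φ.v := by
  obtain ⟨i, hi, e⟩ := Φ.exists_pow_t (hg t Φ.t_mem) (fun e => Φ.t_ne (by
    rwa [mul_inv_eq_one, mul_eq_left] at e))
  refine ⟨i, hi, ?_⟩
  set x := (Φ.m ^ i)⁻¹ * g with hx
  have hci : (Φ.m ^ i)⁻¹ = Φ.m ^ (3 - i) := by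
    rw [inv_eq_iff_mul_eq_one, ← pow_add, show i + (3 - i) = orderOf Φ.m by rw [Φ.m_ord]; omega,
      pow_orderOf_eq_one]
  have hxV : ∀ w ∈ Φ.V, x * w * x⁻¹ ∈ Φ.V := fun w hw => by
    have := Φ.conjPow_V (hg w hw) (3 - i)
    rw [← hci] at this
    rwa [show x * w * x⁻¹ = (Φ.m ^ i)⁻¹ * (g * w * g⁻¹) * (Φ.m ^ i)⁻¹⁻¹ by rw [hx]; group]
  have hxt : x * t * x⁻¹ = t := by
    rw [hx, show (Φ.m ^ i)⁻¹ * g * t * ((Φ.m ^ i)⁻¹ * g)⁻¹ = (Φ.m ^ i)⁻¹ * (g * t * g⁻¹) * Φ.m ^ i by group, ← e]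
    group
  have hxt' : Commute x t := mul_inv_eq_iff_eq_mul.1 hxt
  refine ⟨hxt', ?_⟩
  obtain ⟨u, s, hu, hs, hus, he, hug, hsg⟩ := exists_split x
  have hN : ∀ y ∈ zpowers x, Commute y t ∧ ∀ w ∈ Φ.V, y * w * y⁻¹ ∈ Φ.V := by
    intro y hy
    refine ⟨?_, fun w hw => ?_⟩
    · obtain ⟨j, rfl⟩ := hy
      exact hxt'.zpow_left j
    · exact (mem_normalizer_iff.1 ((zpowers_le.2 (Cfsg.Lib.ZStarApps.mem_normalizer_of_maps hxV)) hy) w).1 hw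
  obtain ⟨-, huv⟩ := Φ.two_centralizes hu (hN u hug).2
  obtain ⟨hst, hsV⟩ := hN s hsg
  have hsv : Commute (s * s) Φ.v := by
    rcases hsV _ Φ.v_mem with r | r | r | r
    · exact absurd (by rwa [mul_inv_eq_one, mul_eq_left] at r) Φ.v_ne_one
    · exfalso
      refine Φ.v_ne ((MulAut.conj s).injective ?_)
      show s * Φ.v * s⁻¹ = s * t * s⁻¹
      rw [r, hst.eq, mul_inv_cancel_right]
    · exact (show Commute s Φ.v from mul_inv_eq_iff_eq_mul.1 r).mul_left (mul_inv_eq_iff_eq_mul.1 r)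
    · refine mul_inv_eq_iff_eq_mul.1 ?_
      rw [show s * s * Φ.v * (s * s)⁻¹ = s * (s * Φ.v * s⁻¹) * s⁻¹ by group, r,
        show s * (t * Φ.v) * s⁻¹ = (s * t * s⁻¹) * (s * Φ.v * s⁻¹) by group, r, hst.eq, mul_inv_cancel_right,
        ← mul_assoc, Φ.tt, one_mul]
  obtain ⟨j, hj⟩ := exists_sq_pow hs
  rw [← he]
  exact huv.mul_left (hj ▸ hsv.pow_left j)

/-- An element normalising `V` normalises `K`. -/
theorem norm_V_K {g : G} (hg : ∀ w ∈ Φ.V, g * w * g⁻¹ ∈ Φ.V) {y : G} (hy : y ∈ Φ.K) : g * y * g⁻¹ ∈ Φ.K := by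
  obtain ⟨i, -, h1, h2⟩ := Φ.norm_V hg
  set x := (Φ.m ^ i)⁻¹ * g with hx
  have hxy : x * y * x⁻¹ ∈ Φ.K := by
    refine (Φ.mem_K _).2 ⟨by
      rw [show orderOf (x * y * x⁻¹) = orderOf y from (MulAut.conj x).orderOf_eq y]; exact Φ.K_odd hy, ?_, ?_⟩
    · exact (h1.mul_left (Φ.K_t hy)).mul_left h1.inv_left
    · exact (h2.mul_left (Φ.K_v hy)).mul_left h2.inv_left
  have := Φ.conjPow_K hxy i
  rwa [show Φ.m ^ i * (x * y * x⁻¹) * (Φ.m ^ i)⁻¹ = g * y * g⁻¹ by rw [hx]; group] at this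

end Finite

end Frame

end Cfsg.Lib.Ree
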