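import Cfsg.Agent.Ree.Setting
import Cfsg.Agent.Ree.PSL.Group
import Cfsg.Agent.AbCentMax.Final

/-!
The four-group `V = {1, t, v, tv}`, the torus `K` in its centralizer, an involution `z` inverting `K` and an
element `m` of order 3 centralizing `z` and permuting `t, v, tv`; see `notes/ree_order_v1.md`, part B.
-/

set_option autoImplicit false
set_option linter.style.haveILetI false
set_option linter.unusedSectionVars false

namespace Cfsg.Lib.Ree

open Subgroup Cfsg.Lib.TwoTimesPSL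

universe u v

variable {G : Type u} [Group G]

/-- Membership in the four-group `{1, t, v, tv}`. -/
def InFour (t v w : G) : Prop := w = 1 ∨ w = t ∨ w = v ∨ w = t * v

/-- The data around the four-group `{1, t, v, tv}`. -/
structure Frame (t : G) where
  v : G
  z : G
  m : G
  K : Subgroup G
  t_ord : orderOf t = 2
  v_ord : orderOf v = 2
  z_ord : orderOf z = 2
  m_ord : orderOf m = 3
  tv : Commute t v
  tz : Commute t z
  vz : Commute v z
  v_ne : v ≠ t
  z_not : ¬ InFour t v z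
  m_t : m * t * m⁻¹ = v
  m_v : m * v * m⁻¹ = t * v
  mz : Commute m z
  z_conj : ∃ g : G, g * t * g⁻¹ = z
  mem_K : ∀ y : G, y ∈ K ↔ Odd (orderOf y) ∧ Commute y t ∧ Commute y v
  cyclic_K : IsCyclic K
  three_le : 3 ≤ Nat.card K
  odd_K : Odd (Nat.card K)
  inv : ∀ y ∈ K, z * y * z⁻¹ = y⁻¹
  cen : ∀ x : G, Commute x t → Commute x v → ∃ y ∈ K, ∃ w, InFour t v w ∧ (x = w * y ∨ x = w * (z * y))
  cen_y : ∀ y ∈ K, y ≠ 1 → ∀ x : G, Commute x t → Commute x y → Commute x v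
  ab : ∀ S : Sylow 2 G, IsMulCommutative ↥(S : Subgroup G)

section Build

variable [Finite G] {t : G} {E : Subgroup G} {F : Type v} [Field F] [Fintype F]

theorem Setting.transitive (H : Setting t E F) {T : Sylow 2 G} {a b n : G}
    (S : AbCentMax.Sys t E T a b n) :
    ∀ x ∈ T, x ≠ 1 → ∃ g, g ∈ normalizer ((T : Subgroup G) : Set G) ∧ g * t * g⁻¹ = x := by
  haveI := H.simple
  rcases AbCentMax.orbit_dichotomy H.hyp S (H := ⊤) (fun x _ => mem_top x) with hiso | ⟨h1, -⟩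
  · exfalso
    obtain ⟨N, hN, hNo, hcomm⟩ := Cfsg.Agent.S0215.result T t H.hyp.ord S.tT (fun g => hiso g (mem_top g))
    rcases IsSimpleGroup.eq_bot_or_eq_top_of_normal N hN with e | e
    · refine H.nab ?_
      have hc : ∀ g : G, g * t = t * g := fun g => by
        have h := hcomm g
        rw [e, mem_bot, mul_inv_eq_one] at h
        exact (mul_inv_eq_iff_eq_mul.1 h).symm
      rcases IsSimpleGroup.eq_bot_or_eq_top_of_normal (center G) inferInstance with e' | e'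
      · exact absurd (mem_bot.1 (e' ▸ mem_center_iff.2 hc)) H.hyp.t_ne
      · exact ⟨⟨fun x y => (mem_center_iff.1 (e' ▸ mem_top y) x)⟩⟩
    · rw [e, card_top] at hNo
      exact Nat.not_even_iff_odd.2 hNo (even_iff_two_dvd.2
        (Dvd.dvd.trans (by norm_num) (AbCentMax.three_dvd H.hyp S).1))
  · intro x hx hx1
    obtain ⟨g, -, hg⟩ := h1 x hx hx1
    exact ⟨g, hg⟩

/-- The frame at a given involution of `E`. -/
theorem Setting.exists_frame (H : Setting t E F) {v : G} (hvE : v ∈ E) (hv : orderOf v = 2) :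
    ∃ Φ : Frame t, Φ.v = v := by
  classical
  haveI : Fact (Nat.Prime 2) := ⟨Nat.prime_two⟩
  haveI : Fintype E := Fintype.ofFinite E
  have h := H.hyp
  obtain ⟨⟨v₁, w₁, K₁, hk3, hkodd, hv₁, hw₁, hwv₁, hwne₁, -, -, hcomm₁, hcyc₁, hcard₁, -, -, -, hC₁, hcent₁, -, -, -,
    -⟩⟩ := PSL.exists_geo H.mod H.big h.iso.some
  -- the data of `E` moved to `v`
  obtain ⟨g₁, hg₁E, hg₁⟩ := h.conj v₁.2 (by rwa [orderOf_coe]) hvE hv
  set γ : E ≃* E := MulAut.conj ⟨g₁, hg₁E⟩ with hγ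
  have hγv : (γ v₁ : G) = v := by rw [hγ, MulAut.conj_apply]; push_cast; exact hg₁
  set K : Subgroup G := (K₁.map γ.toMonoidHom).map E.subtype with hK
  have hKE : ∀ y ∈ K, y ∈ E := fun y hy => map_subtype_le _ hy
  have hmem : ∀ y : E, (y : G) ∈ K ↔ Odd (orderOf (y : G)) ∧ Commute (y : G) v := by
    intro y
    rw [hK, show (y : G) = E.subtype y from rfl, mem_map_iff_mem E.subtype_injective, Subgroup.coe_subtype,
      orderOf_coe, mem_map_equiv, hcomm₁, MulEquiv.orderOf_eq]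
    refine and_congr_right fun _ => ⟨fun hc => ?_, fun hc => ?_⟩
    · have := (hc.map γ.toMonoidHom).map E.subtype
      simpa [hγv] using this
    · have hc' : Commute y (γ v₁) := Subtype.ext (by push_cast; rw [hγv]; exact hc.eq)
      have := hc'.map γ.symm.toMonoidHom
      simpa using this
  have hKmem : ∀ y : G, y ∈ K ↔ Odd (orderOf y) ∧ Commute y t ∧ Commute y v := by
    intro y
    constructor
    · intro hy
      obtain ⟨h1, h2⟩ := (hmem ⟨y, hKE y hy⟩).1 hy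
      exact ⟨h1, (h.comm y (hKE y hy)).symm, h2⟩
    · rintro ⟨h1, h2, h3⟩
      exact (hmem ⟨y, h.odd_mem_E h1 h2⟩).2 ⟨h1, h3⟩
  have hKcard : Nat.card K = Nat.card K₁ := by
    rw [hK, card_map_of_injective E.subtype_injective, card_map_of_injective γ.injective]
  have hKcyc : IsCyclic K := by
    rw [hK]
    exact (MulEquiv.isCyclic (K₁.equivMapOfInjective _ γ.injective |>.trans
      ((K₁.map γ.toMonoidHom).equivMapOfInjective _ E.subtype_injective))).1 hcyc₁
  -- a system of `t` containing `v`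
  obtain ⟨T₀, a₀, b₀, n₀, S₀⟩ := AbCentMax.exists_sys h H.ab
  obtain ⟨g₀, hg₀E, hg₀⟩ := h.conj S₀.aE S₀.ao hvE hv
  set c : G →* G := (MulAut.conj g₀).toMonoidHom with hc
  have hct : c t = t := by
    show g₀ * t * g₀⁻¹ = t
    rw [← (h.comm g₀ hg₀E).eq, mul_inv_cancel_right]
  have hcE : ∀ x ∈ E, c x ∈ E := fun x hx => mul_mem (mul_mem hg₀E hx) (inv_mem hg₀E)
  have hco : ∀ x, orderOf (c x) = orderOf x := fun x => (MulAut.conj g₀).orderOf_eq x
  obtain ⟨T, hT⟩ : ∃ T : Sylow 2 G, ∀ x, x ∈ T ↔ ∃ y ∈ T₀, c y = x := by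
    refine ⟨MulAut.conj g₀ • T₀, fun x => ?_⟩
    exact Subgroup.mem_map
  set b := c b₀ with hb
  set n := c n₀ with hn
  have S : AbCentMax.Sys t E T v b n := by
    refine ⟨(hT t).2 ⟨t, S₀.tT, hct⟩, ?_, hvE, hcE _ S₀.bE, hcE _ S₀.nE, hv, (hco _).trans S₀.bo, ?_,
      (hT v).2 ⟨a₀, S₀.aT, hg₀⟩, (hT b).2 ⟨b₀, S₀.bT, rfl⟩, ?_, ?_, ?_, (hco _).trans S₀.no⟩
    · intro x hx y hy
      obtain ⟨x', hx', rfl⟩ := (hT x).1 hx
      obtain ⟨y', hy', rfl⟩ := (hT y).1 hy
      exact (S₀.tcomm x' hx' y' hy').map c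
    · rw [hb, ← hg₀]
      exact fun e => S₀.ne ((MulAut.conj g₀).injective e)
    · intro x hx
      obtain ⟨x', hx', rfl⟩ := (hT x).1 hx
      obtain ⟨w, hw, r⟩ := S₀.cases x' hx'
      have hcv : c a₀ = v := hg₀
      refine ⟨c w, ?_, ?_⟩
      · rcases hw with rfl | rfl | rfl | rfl
        · exact Or.inl (map_one c)
        · exact Or.inr (Or.inl hcv)
        · exact Or.inr (Or.inr (Or.inl rfl))
        · exact Or.inr (Or.inr (Or.inr (by rw [map_mul, hcv])))
      · rcases r with rfl | rfl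
        · exact Or.inl rfl
        · exact Or.inr (by rw [map_mul, hct])
    · rw [hn, hb, ← hg₀]
      show c n₀ * c a₀ * (c n₀)⁻¹ = c b₀
      rw [← map_inv, ← map_mul, ← map_mul, S₀.na]
    · rw [hn, hb, ← hg₀]
      show c n₀ * c b₀ * (c n₀)⁻¹ = c a₀ * c b₀
      rw [← map_inv, ← map_mul, ← map_mul, S₀.nb, map_mul]
  have hvv := AbCentMax.aa h S
  have hbb := AbCentMax.bb h S
  have hvb := AbCentMax.ab_comm h S
  have hb1 : b ≠ 1 := fun e => by have := S.bo; rw [e, orderOf_one] at this; omega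
  have hv1 : v ≠ 1 := fun e => by rw [e, orderOf_one] at hv; omega
  have hvb1 : v * b ≠ 1 := fun e => by have := AbCentMax.ab_order h S; rw [e, orderOf_one] at this; omega
  -- an element taking `v` to `t`, then corrected by a power of `n`
  obtain ⟨g₂, hg₂N, hg₂⟩ := H.transitive S v S.aT hv1
  have hgN : ∀ {g : G}, g ∈ normalizer ((T : Subgroup G) : Set G) → ∀ x ∈ T, g * x * g⁻¹ ∈ T := fun hg x hx =>
    (mem_normalizer_iff.1 hg x).1 hx
  have hnN := AbCentMax.n_mem_normalizer h S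
  have hnt : ∀ i : ℕ, n ^ i * t * (n ^ i)⁻¹ = t := fun i => by
    rw [← ((h.comm n S.nE).pow_right i).eq, mul_inv_cancel_right]
  obtain ⟨g, hgmem, hgv, hgb⟩ : ∃ g, g ∈ normalizer ((T : Subgroup G) : Set G) ∧ g * v * g⁻¹ = t ∧
      (g * b * g⁻¹ = v ∨ g * b * g⁻¹ = t * v) := by
    have hr : g₂⁻¹ * v * g₂ = t := by rw [← hg₂]; group
    have hg₂' : g₂⁻¹ ∈ normalizer ((T : Subgroup G) : Set G) := inv_mem hg₂N
    have hne : g₂⁻¹ * b * g₂ ≠ 1 ∧ g₂⁻¹ * b * g₂ ≠ t := by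
      refine ⟨fun e => hb1 ?_, fun e => S.ne ?_⟩
      · rw [show b = g₂ * (g₂⁻¹ * b * g₂) * g₂⁻¹ by group, e]; group
      · rw [show b = g₂ * (g₂⁻¹ * b * g₂) * g₂⁻¹ by group, e, hg₂]
    have heT : g₂⁻¹ * b * g₂ ∈ T := by simpa using hgN hg₂' b S.bT
    obtain ⟨w, hw, r⟩ := S.cases _ heT
    have hw1 : w = v ∨ w = b ∨ w = v * b := by
      refine hw.resolve_left fun e => ?_
      rcases r with r | r
      · exact hne.1 (r.trans e)
      · exact hne.2 (r.trans (by rw [e, mul_one]))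
    have hnvb : n * (v * b) * n⁻¹ = v := by
      rw [show n * (v * b) * n⁻¹ = (n * v * n⁻¹) * (n * b * n⁻¹) by group, S.na, S.nb, hvb.eq, ← mul_assoc, hbb,
        one_mul]
    obtain ⟨i, hi⟩ : ∃ i : ℕ, n ^ i * w * (n ^ i)⁻¹ = v := by
      rcases hw1 with rfl | rfl | rfl
      · exact ⟨0, by simp⟩
      · exact ⟨2, by rw [pow_two, show n * n * b * (n * n)⁻¹ = n * (n * b * n⁻¹) * n⁻¹ by group, S.nb, hnvb]⟩
      · exact ⟨1, by rw [pow_one, hnvb]⟩
    refine ⟨n ^ i * g₂⁻¹, mul_mem (pow_mem hnN i) hg₂', ?_, ?_⟩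
    · rw [show n ^ i * g₂⁻¹ * v * (n ^ i * g₂⁻¹)⁻¹ = n ^ i * (g₂⁻¹ * v * g₂) * (n ^ i)⁻¹ by group, hr, hnt]
    · rcases r with r | r
      · left
        rw [show n ^ i * g₂⁻¹ * b * (n ^ i * g₂⁻¹)⁻¹ = n ^ i * (g₂⁻¹ * b * g₂) * (n ^ i)⁻¹ by group, r, hi]
      · right
        rw [show n ^ i * g₂⁻¹ * b * (n ^ i * g₂⁻¹)⁻¹ = n ^ i * (g₂⁻¹ * b * g₂) * (n ^ i)⁻¹ by group, r,
          show n ^ i * (t * w) * (n ^ i)⁻¹ = (n ^ i * t * (n ^ i)⁻¹) * (n ^ i * w * (n ^ i)⁻¹) by group, hnt, hi]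
  -- `z` and the element of order three
  set z := g * t * g⁻¹ with hz
  have hzo : orderOf z = 2 := ((MulAut.conj g).orderOf_eq t).trans h.ord
  have hzT : z ∈ T := hgN hgmem t S.tT
  have hzne : ¬ InFour t v z := by
    intro hw
    have hpre : z = g * 1 * g⁻¹ ∨ z = g * v * g⁻¹ ∨ z = g * b * g⁻¹ ∨ z = g * (v * b) * g⁻¹ := by
      have e1 : g * (v * b) * g⁻¹ = (g * v * g⁻¹) * (g * b * g⁻¹) := by group
      have ett : t * (t * v) = v := by rw [← mul_assoc, h.tt, one_mul]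
      rcases hw with e | e | e | e
      · exact Or.inl (by rw [e]; group)
      · exact Or.inr (Or.inl (e.trans hgv.symm))
      · rcases hgb with r | r
        · exact Or.inr (Or.inr (Or.inl (e.trans r.symm)))
        · exact Or.inr (Or.inr (Or.inr (by rw [e, e1, hgv, r, ett])))
      · rcases hgb with r | r
        · exact Or.inr (Or.inr (Or.inr (by rw [e, e1, hgv, r])))
        · exact Or.inr (Or.inr (Or.inl (e.trans r.symm)))
    have hinj : ∀ x, z = g * x * g⁻¹ → t = x := fun x e => (MulAut.conj g).injective e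
    rcases hpre with e | e | e | e <;> have := hinj _ e
    · exact h.t_ne this
    · exact h.disj (this ▸ hvE)
    · exact h.disj (this ▸ S.bE)
    · exact h.disj (this ▸ mul_mem hvE S.bE)
  set μ := g * n * g⁻¹ with hμ
  have hμo : orderOf μ = 3 := ((MulAut.conj g).orderOf_eq n).trans S.no
  have hμz : Commute μ z := ((h.comm n S.nE).symm.map (MulAut.conj g).toMonoidHom)
  have hμt : μ * t * μ⁻¹ = g * b * g⁻¹ := by rw [← hgv, hμ, ← S.na]; group
  have hμb : μ * (g * b * g⁻¹) * μ⁻¹ = t * (g * b * g⁻¹) := by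
    rw [hμ, show g * n * g⁻¹ * (g * b * g⁻¹) * (g * n * g⁻¹)⁻¹ = g * (n * b * n⁻¹) * g⁻¹ by group, S.nb, ← hgv]
    group
  obtain ⟨m, hmo, hmz, hmt, hmv⟩ : ∃ m, orderOf m = 3 ∧ Commute m z ∧ m * t * m⁻¹ = v ∧ m * v * m⁻¹ = t * v := by
    rcases hgb with r | r <;> rw [r] at hμt hμb
    · exact ⟨μ, hμo, hμz, hμt, hμb⟩
    · have e : μ * (t * v) * μ⁻¹ = v := by rw [hμb, ← mul_assoc, h.tt, one_mul]
      have ev : μ * v * μ⁻¹ = t := by
        have e2 : μ * v * μ⁻¹ = (μ * t * μ⁻¹) * (μ * (t * v) * μ⁻¹) := by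
          rw [show (μ * t * μ⁻¹) * (μ * (t * v) * μ⁻¹) = μ * (t * (t * v)) * μ⁻¹ by group, ← mul_assoc t, h.tt,
            one_mul]
        rw [e2, hμt, e, mul_assoc, hvv, mul_one]
      refine ⟨μ⁻¹, by rw [orderOf_inv, hμo], hμz.inv_left, ?_, ?_⟩
      · rw [inv_inv]; nth_rw 1 [← ev]; group
      · rw [inv_inv]; nth_rw 1 [← e]; group
  -- `b` inverts `K`
  have hinvb : ∀ y ∈ K, b * y * b⁻¹ = y⁻¹ := fun y hy => by
    obtain ⟨ho, -, hyv⟩ := (hKmem y).1 hy
    exact h.inverts hvE hv S.bE S.bo S.ne hvb (hKE y hy) ho hyv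
  -- `z = w * b` with `w` in the four-group
  obtain ⟨w₀, hw₀, hzb⟩ : ∃ w, InFour t v w ∧ z = w * b := by
    obtain ⟨w, hw, r⟩ := S.cases z hzT
    rcases r with r | r <;> rcases hw with rfl | rfl | rfl | rfl
    · exact absurd (Or.inl r) hzne
    · exact absurd (Or.inr (Or.inr (Or.inl r))) hzne
    · exact ⟨1, Or.inl rfl, by rw [one_mul]; exact r⟩
    · exact ⟨v, Or.inr (Or.inr (Or.inl rfl)), r⟩
    · exact absurd (Or.inr (Or.inl (r.trans (mul_one t)))) hzne
    · exact absurd (Or.inr (Or.inr (Or.inr r))) hzne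
    · exact ⟨t, Or.inr (Or.inl rfl), r⟩
    · exact ⟨t * v, Or.inr (Or.inr (Or.inr rfl)), by rw [r, mul_assoc]⟩
  have hw0c : ∀ y ∈ K, Commute w₀ y := fun y hy => by
    obtain ⟨-, h1, h2⟩ := (hKmem y).1 hy
    rcases hw₀ with rfl | rfl | rfl | rfl
    · exact Commute.one_left y
    · exact h1.symm
    · exact h2.symm
    · exact h1.symm.mul_left h2.symm
  have hinv : ∀ y ∈ K, z * y * z⁻¹ = y⁻¹ := fun y hy => by
    rw [hzb, show w₀ * b * y * (w₀ * b)⁻¹ = w₀ * (b * y * b⁻¹) * w₀⁻¹ by group, hinvb y hy,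
      (hw0c _ (inv_mem hy)).eq, mul_inv_cancel_right]
  have htv : Commute t v := h.comm v hvE
  have htz : Commute t z := S.tcomm t S.tT z hzT
  have hvz : Commute v z := S.tcomm v S.aT z hzT
  have hmul : ∀ x w, InFour t v x → InFour t v w → InFour t v (x * w) := by
    intro x w hx hw
    have e1 : t * (t * v) = v := by rw [← mul_assoc, h.tt, one_mul]
    have e2 : v * (t * v) = t := by rw [← mul_assoc, ← htv.eq, mul_assoc, hvv, mul_one]
    have e3 : t * v * t = v := by rw [mul_assoc, ← htv.eq, e1]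
    have e4 : t * v * v = t := by rw [mul_assoc, hvv, mul_one]
    have e5 : t * v * (t * v) = 1 := by rw [← mul_assoc, e3, hvv]
    rcases hx with rfl | rfl | rfl | rfl <;> rcases hw with rfl | rfl | rfl | rfl <;>
      simp [InFour, h.tt, hvv, htv.eq.symm, e1, e2, e3, e4, e5]
  refine ⟨⟨v, z, m, K, h.ord, hv, hzo, hmo, htv, htz, hvz, fun e => h.disj (e ▸ hvE), hzne, hmt, hmv, hmz, ⟨g, hz.symm⟩, hKmem,
    hKcyc, hKcard.symm ▸ hcard₁ ▸ hk3, hKcard.symm ▸ hcard₁ ▸ hkodd, hinv, ?_, ?_, H.ab⟩, rfl⟩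
  · -- the centralizer of the four-group
    have hγy : ∀ y ∈ K₁, (γ y : G) ∈ K := fun y hy =>
      ⟨γ y, ⟨y, hy, rfl⟩, rfl⟩
    set w' : G := (γ w₁ : G) with hw'
    have hw'2 : w' * w' = 1 := by
      rw [hw', ← Subgroup.coe_mul, ← map_mul, ← pow_two, ← hw₁, pow_orderOf_eq_one, map_one]; rfl
    have hcases : ∀ e ∈ E, Commute e v → ∃ y ∈ K, e = y ∨ e = v * y ∨ e = w' * y ∨ e = v * w' * y := by
      intro e he hev
      have hc' : Commute (γ.symm ⟨e, he⟩) v₁ := by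
        have : Commute (⟨e, he⟩ : E) (γ v₁) := Subtype.ext (by push_cast; rw [hγv]; exact hev.eq)
        simpa using this.map γ.symm.toMonoidHom
      obtain ⟨y, hy, r⟩ := hC₁ _ hc'
      refine ⟨(γ y : G), hγy y hy, ?_⟩
      rcases r with r | r | r | r <;> have e' := congrArg (fun u : E => (γ u : G)) r <;>
        simp only [MulEquiv.apply_symm_apply, map_mul, Subgroup.coe_mul] at e'
      · exact Or.inl e'
      · exact Or.inr (Or.inl (by rw [← hγv]; exact e'))
      · exact Or.inr (Or.inr (Or.inl e'))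
      · exact Or.inr (Or.inr (Or.inr (by rw [← hγv]; exact e')))
    -- `w'` in terms of `z`
    obtain ⟨y₀, hy₀, w₁', hw₁', hw'z⟩ : ∃ y₀ ∈ K, ∃ w, InFour t v w ∧ w' = w * (z * y₀) := by
      obtain ⟨y, hy, r⟩ := hcases b S.bE hvb.symm
      obtain ⟨hyo, -, hyv⟩ := (hKmem y).1 hy
      have hb' : b = w₀⁻¹ * z := by rw [hzb]; group
      have hw0i : InFour t v w₀⁻¹ := by
        rcases hw₀ with rfl | rfl | rfl | rfl
        · exact Or.inl inv_one
        · exact Or.inr (Or.inl h.t_inv)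
        · exact Or.inr (Or.inr (Or.inl (inv_eq_of_mul_eq_one_right hvv)))
        · exact Or.inr (Or.inr (Or.inr (by
            rw [mul_inv_rev, inv_eq_of_mul_eq_one_right hvv, h.t_inv, htv.eq])))
      have hev : Even (orderOf b) := by rw [S.bo]; exact even_two
      rcases r with r | r | r | r
      · exact absurd (r ▸ hyo) (Nat.not_odd_iff_even.2 hev)
      · exfalso
        have h2 : orderOf y ∣ 2 := orderOf_dvd_of_pow_eq_one (by
          rw [show y = v * b by rw [r, ← mul_assoc, hvv, one_mul], hvb.mul_pow, pow_two, pow_two, hvv, hbb, one_mul])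
        have hy1 : y = 1 := orderOf_eq_one_iff.1
          (Nat.Coprime.eq_one_of_dvd (Nat.coprime_two_right.2 hyo) h2)
        rw [hy1, mul_one] at r
        exact S.ne r.symm
      · exact ⟨y⁻¹, inv_mem hy, w₀⁻¹, hw0i, by rw [← mul_assoc, ← hb', r, mul_inv_cancel_right]⟩
      · exact ⟨y⁻¹, inv_mem hy, v * w₀⁻¹, hmul _ _ (Or.inr (Or.inr (Or.inl rfl))) hw0i, by
          rw [mul_assoc v w₀⁻¹, ← mul_assoc w₀⁻¹, ← hb', r, mul_assoc (v * w') y, mul_inv_cancel, mul_one,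
            ← mul_assoc, hvv, one_mul]⟩
    intro x hxt hxv
    obtain ⟨e, he, r⟩ := h.split x hxt
    have hev : Commute e v := by
      rcases r with rfl | rfl
      · exact hxv
      · have := (htv.inv_left).mul_left hxv
        rwa [h.t_inv, ← mul_assoc, h.tt, one_mul] at this
    obtain ⟨p, hp, hpx⟩ : ∃ p, InFour t v p ∧ x = p * e := by
      rcases r with r | r
      · exact ⟨1, Or.inl rfl, by rw [one_mul]; exact r⟩
      · exact ⟨t, Or.inr (Or.inl rfl), r⟩
    obtain ⟨y, hy, s⟩ := hcases e he hev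
    rcases s with s | s | s | s
    · exact ⟨y, hy, p, hp, Or.inl (by rw [hpx, s])⟩
    · exact ⟨y, hy, p * v, hmul _ _ hp (Or.inr (Or.inr (Or.inl rfl))), Or.inl (by rw [hpx, s, mul_assoc])⟩
    · refine ⟨y₀ * y, mul_mem hy₀ hy, p * w₁', hmul _ _ hp hw₁', Or.inr ?_⟩
      rw [hpx, s, hw'z]; simp only [mul_assoc]
    · refine ⟨y₀ * y, mul_mem hy₀ hy, p * (v * w₁'), hmul _ _ hp (hmul _ _ (Or.inr (Or.inr (Or.inl rfl))) hw₁'),
        Or.inr ?_⟩
      rw [hpx, s, hw'z]; simp only [mul_assoc]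
  · -- the centralizer of an element of `K`
    intro y hy hy1 x hxt hxy
    obtain ⟨e, he, r⟩ := h.split x hxt
    have hey : Commute e y := by
      rcases r with rfl | rfl
      · exact hxy
      · have := (h.comm y (hKE y hy)).inv_left.mul_left hxy
        rwa [h.t_inv, ← mul_assoc, h.tt, one_mul] at this
    obtain ⟨ho, -, hyv⟩ := (hKmem y).1 hy
    have hyγ : γ.symm ⟨y, hKE y hy⟩ ∈ K₁ := by
      rw [hcomm₁, MulEquiv.orderOf_eq, orderOf_mk]
      refine ⟨ho, ?_⟩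
      have : Commute (⟨y, hKE y hy⟩ : E) (γ v₁) := Subtype.ext (by push_cast; rw [hγv]; exact hyv.eq)
      simpa using this.map γ.symm.toMonoidHom
    have hev : Commute e v := by
      have h1 := (hcent₁ _ hyγ (fun e' => hy1 (by
        have := congrArg (fun u : E => (γ u : G)) e'; simpa using this)) (γ.symm ⟨e, he⟩)
        ((show Commute (⟨e, he⟩ : E) ⟨y, hKE y hy⟩ from Subtype.ext hey.eq).map γ.symm.toMonoidHom)).1
      have h2 := (h1.map γ.toMonoidHom).map E.subtype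
      simpa [hγv] using h2
    rcases r with rfl | rfl
    · exact hev
    · exact htv.mul_left hev

end Build

end Cfsg.Lib.Ree
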